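import Groth.Agent.PerfC.RelFlat
import Groth.Agent.Dcoh.Spread
import Groth.Agent.Sga67.K0Basic
import Groth.Prelude.Def_SGA6

/-!
# Pullback of short exact sequences of finite locally free modules and the map `f^K` on `K₀`

* `shortExact_pullback_of_isFlat`: for any morphism `f : X ⟶ Y`, the pullback `f^*` carries a short exact sequence
  of `O_Y`-modules whose third term is flat (e.g. finite locally free) to a short exact sequence.
* `pullK0 f : SGA6.Kvb Y →+ SGA6.Kvb X`, the map `[E] ↦ [f^* E]`, and its uniqueness.
-/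

set_option autoImplicit false
universe v u
open CategoryTheory CategoryTheory.Limits AlgebraicGeometry

namespace Groth.Agent.Krr.H496.PullK0

variable {X Y : Scheme.{u}} (f : X ⟶ Y)

/-- `f^*` preserves short exact sequences whose third term is flat. -/
theorem shortExact_pullback_of_isFlat {S : ShortComplex Y.Modules} (hS : S.ShortExact)
    (h₃ : FlatMod.IsFlat S.X₃) : (S.map (Scheme.Modules.pullback f)).ShortExact := by
  have := hS.epi_g
  have H : IsPullback f (𝟙 X) (𝟙 Y) f := IsPullback.of_vert_isIso ⟨by simp⟩
  exact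
    { exact := hS.exact.map_of_epi_of_preservesCokernel (Scheme.Modules.pullback f) hS.epi_g
        inferInstance
      mono_f := Groth.Agent.PerfC.RelFlat.mono_pullback_map H S hS
        (Groth.Agent.PerfC.RelFlat.isFlatOver_of_isFlat (𝟙 Y) h₃)
      epi_g := by
        change Epi ((Scheme.Modules.pullback f).map S.g)
        infer_instance }

/-- `f^*` preserves short exact sequences whose third term is finite locally free. -/
theorem shortExact_pullback_of_isFinLocFree {S : ShortComplex Y.Modules} (hS : S.ShortExact)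
    (h₃ : FlatMod.IsFinLocFree S.X₃) : (S.map (Scheme.Modules.pullback f)).ShortExact :=
  shortExact_pullback_of_isFlat f hS (Groth.Agent.Dcoh.Spread.isFlat_of_isFinLocFree h₃)

/-- The class of a finite locally free module. -/
noncomputable abbrev cl (M : X.Modules) : SGA6.Kvb X :=
  KZero.clSub (fun M : X.Modules => FlatMod.IsFinLocFree M) M

theorem cl_ses {S : ShortComplex X.Modules} (hS : S.ShortExact)
    (h₁ : FlatMod.IsFinLocFree S.X₁) (h₂ : FlatMod.IsFinLocFree S.X₂)
    (h₃ : FlatMod.IsFinLocFree S.X₃) : cl S.X₂ = cl S.X₁ + cl S.X₃ :=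
  Groth.Agent.Sga67.K0Basic.clSub_of_shortExact
    (P := fun M : X.Modules => FlatMod.IsFinLocFree M) S hS h₁ h₂ h₃

/-- The pullback homomorphism on `K₀` of finite locally free modules. -/
noncomputable def pullK0 : SGA6.Kvb Y →+ SGA6.Kvb X :=
  Groth.Agent.Sga67.K0Basic.liftSub (fun M : Y.Modules => FlatMod.IsFinLocFree M)
    (fun E => cl ((Scheme.Modules.pullback f).obj E))
    (fun _ hS h₁ h₂ h₃ => cl_ses (shortExact_pullback_of_isFinLocFree f hS h₃)
      (Groth.Agent.PerfB.FlatPull.isFinLocFree_pullback f h₁)
      (Groth.Agent.PerfB.FlatPull.isFinLocFree_pullback f h₂)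
      (Groth.Agent.PerfB.FlatPull.isFinLocFree_pullback f h₃))

theorem pullK0_cl {E : Y.Modules} (hE : FlatMod.IsFinLocFree E) :
    pullK0 f (cl E) = cl ((Scheme.Modules.pullback f).obj E) :=
  Groth.Agent.Sga67.K0Basic.liftSub_clSub
    (P := fun M : Y.Modules => FlatMod.IsFinLocFree M)
    (fun E => cl ((Scheme.Modules.pullback f).obj E)) _ hE

end Groth.Agent.Krr.H496.PullK0
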