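import Groth.Agent.Krr.H496.ExcChart
import Groth.Agent.Sga67.KosConormal

/-!
# The exceptional divisor of the blow-up of a regular closed immersion is a projective bundle

Let `f : X ⟶ Y` be a regular closed immersion, `φ : Z ⟶ Y` the blow-up of `Y` in `X` and `X₁ = φ⁻¹ X` the exceptional
divisor, `IsPullback f₁ ψ φ f`.
* `isRegular_exc`: `f₁` is a regular closed immersion;
* `isFinLocFree_exc`: its conormal module is invertible;
* `isProjBundle_exc`: `(ψ, conormal f, conormal f₁, conormalMap)` is a projective bundle.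
-/

set_option autoImplicit false
universe u

open CategoryTheory CategoryTheory.Limits AlgebraicGeometry Opposite TopologicalSpace BlowUp

namespace Groth.Agent.Krr.H496.ExcBundle

open Groth.Agent.Dix.IdealModCartier
open Groth.Agent.Krr.H496.GenLocus Groth.Agent.Krr.H496.ProjCrit Groth.Agent.Krr.H496.ConMapSec
open Groth.Agent.Krr.H496.ExcCoord Groth.Agent.Krr.H496.ExcChart
open Groth.Agent.Grpsch.ConormalIso Groth.Agent.Sga67.Sec Groth.Agent.Sga67.LocBasis
open Groth.Agent.Krr.H487.LocBasisPull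

/-- A closed immersion whose ideal is effective Cartier is a regular closed immersion. -/
theorem isRegular_of_isEff {X₁ Z : Scheme.{u}} (f₁ : X₁ ⟶ Z) [IsClosedImmersion f₁]
    (h : IsEffCartierIdeal f₁.ker) : Mor2.IsRegularClosedImmersion f₁ := by
  refine ⟨inferInstance, fun z => ?_⟩
  obtain ⟨U, hz, a, ha, hU⟩ := h (f₁ z)
  refine ⟨U.1, U.2, hz, [a], ?_, ?_⟩
  · rw [RingTheory.Sequence.isRegular_iff]
    refine ⟨?_, ?_⟩
    · rw [RingTheory.Sequence.isWeaklyRegular_singleton_iff, isSMulRegular_iff_right_eq_zero_of_smul]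
      intro x hx
      rw [mem_nonZeroDivisors_iff_left] at ha
      exact ha x hx
    · intro h
      rw [smul_eq_mul, Ideal.mul_top, Ideal.ofList_singleton, ← hU] at h
      have h1 := Groth.Agent.Sga67.BlowReg.ker_le_primeIdealOf f₁ U z hz
      rw [← h, top_le_iff] at h1
      exact (U.2.primeIdealOf ⟨f₁ z, hz⟩).isPrime.ne_top h1
  · rw [Ideal.ofList_singleton]
    exact hU

theorem isInv_idealMod {Z : Scheme.{u}} {D : Z.IdealSheafData} (h : IsEffCartierIdeal D) :
    IsInv (ClSub.idealMod D) := by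
  have h1 := isInvertible_idealMod h
  rw [Groth.Agent.Fdesc.LocGen.isInvertible_iff] at h1
  intro x
  obtain ⟨U, σ, hx, hσ⟩ := h1 x
  exact ⟨U, σ, hx, isGen_iff.2 hσ⟩

variable {X Y Z X₁ : Scheme.{u}} {f : X ⟶ Y} {φ : Z ⟶ Y} {f₁ : X₁ ⟶ Z} {ψ : X₁ ⟶ X}

section

variable [IsClosedImmersion f] [IsClosedImmersion f₁]

omit [IsClosedImmersion f₁] in
theorem isEff_exc (hφ : IsBlowUp φ f.ker) (hsq : IsPullback f₁ ψ φ f) :
    IsEffCartierIdeal f₁.ker := by
  rw [Groth.Agent.Sga67.BlowReg.ker_of_isPullback hsq]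
  exact hφ.1

/-- The chart condition for the exceptional divisor. -/
theorem chartCond_exc (hφ : IsBlowUp φ f.ker) (hsq : IsPullback f₁ ψ φ f) (V : Y.affineOpens)
    {n : ℕ} (s : Fin n → Sec (ClSub.idealMod f.ker) V.1)
    (hJ : f.ker.ideal V = Ideal.span (Set.range fun i => val f.ker (s i)))
    (hqr : CAlgX.IsQuasiRegular fun i => val f.ker (s i)) (j : Fin n) :
    ChartCond ψ (conormalMap hsq.w) (eN f s) j := by
  have hD := Groth.Agent.Sga67.BlowReg.ker_of_isPullback hsq
  have hL : IsInv (ClSub.idealMod f₁.ker) := isInv_idealMod (isEff_exc hφ hsq)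
  obtain ⟨y, hy⟩ := exists_coordFam (σ := tau hsq.w s) (j := j) le_rfl
  have hσ : ∀ i, val f₁.ker (tau hsq.w s i) = φ.app V.1 (val f.ker (s i)) :=
    fun i => val_idMap hsq.w (s i)
  constructor
  · intro T g h h' hh hh' a H H'
    rw [coordOn_iff] at H H'
    obtain ⟨hk, hka⟩ := (coordFam_pbS_iff hL (h ≫ f₁) hy).1 H
    obtain ⟨hk', hka'⟩ := (coordFam_pbS_iff hL (h' ≫ f₁) hy).1 H'
    refine hsq.hom_ext ?_ (hh.trans hh'.symm)
    refine hom_unique (j := j) hφ hD hJ hσ hy ?_ hk hk' fun i => ?_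
    · rw [Category.assoc, Category.assoc, hsq.w, ← Category.assoc, ← Category.assoc, hh, hh']
    · exact (hka i).symm.trans (hka' i)
  · intro T g hg a ha
    have hg' : (⊤ : T.Opens) ≤ (g ≫ f) ⁻¹ᵁ V.1 := by
      rw [Scheme.Hom.comp_preimage]
      exact hg
    have hker : ∀ x ∈ Ideal.span (Set.range fun i => val f.ker (s i)),
        ((g ≫ f).appLE V.1 ⊤ hg').hom x = 0 := by
      intro x hx
      rw [← hJ, Scheme.Hom.ker_apply, RingHom.mem_ker] at hx
      rw [← Scheme.Hom.appLE_comp_appLE g f V.1 (f ⁻¹ᵁ V.1) ⊤ le_rfl hg]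
      have h2 : f.appLE V.1 (f ⁻¹ᵁ V.1) le_rfl = f.app V.1 := by
        rw [Scheme.Hom.appLE]; simp
      rw [h2, CommRingCat.hom_comp, RingHom.comp_apply]
      refine (congrArg _ hx).trans ?_
      exact map_zero _
    obtain ⟨k, hk1, hk, hka⟩ := hom_exists (j := j) hφ hD hJ hσ hqr hy hg' hker a ha
    have hl : hsq.lift k g hk1 ≫ f₁ = k := hsq.lift_fst _ _ _
    refine ⟨hsq.lift k g hk1, hsq.lift_snd _ _ _, ?_⟩
    rw [coordOn_iff, coordFam_pbS_iff hL (hsq.lift k g hk1 ≫ f₁) hy]
    refine ⟨by rw [hl]; exact hk, fun i => ?_⟩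
    rw [hka i]
    have h1 : ∀ (k' : T ⟶ Z) (e : k' = k), (k.appLE (genLocus (tau hsq.w s j)) ⊤ hk).hom (y i) =
        (k'.appLE (genLocus (tau hsq.w s j)) ⊤ (e ▸ hk)).hom (y i) := by
      intro k' e
      subst e
      rfl
    exact h1 _ hl

end

/-- The exceptional divisor is a regular closed immersion. -/
theorem isRegular_exc (hf : Mor2.IsRegularClosedImmersion f) (hφ : IsBlowUp φ f.ker)
    (hsq : IsPullback f₁ ψ φ f) : Mor2.IsRegularClosedImmersion f₁ := by
  have : IsClosedImmersion f := hf.1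
  have : IsClosedImmersion f₁ :=
    MorphismProperty.of_isPullback (P := @IsClosedImmersion) hsq.flip inferInstance
  exact isRegular_of_isEff f₁ (isEff_exc hφ hsq)

/-- The conormal module of the exceptional divisor is invertible. -/
theorem isFinLocFree_exc (hf : Mor2.IsRegularClosedImmersion f) (hφ : IsBlowUp φ f.ker)
    (hsq : IsPullback f₁ ψ φ f) : FlatMod.IsFinLocFreeOfRank 1 (Omega.conormal f₁) := by
  have : IsClosedImmersion f := hf.1
  have : IsClosedImmersion f₁ :=
    MorphismProperty.of_isPullback (P := @IsClosedImmersion) hsq.flip inferInstance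
  exact isInv_iff.1 (isInv_pullback f₁ (isInv_idealMod (isEff_exc hφ hsq)))

/-- **The exceptional divisor is the projective bundle of the conormal module.** -/
theorem isProjBundle_exc [QuasiCompact f] [QuasiCompact f₁] (hf : Mor2.IsRegularClosedImmersion f)
    (hφ : IsBlowUp φ f.ker) (hsq : IsPullback f₁ ψ φ f) :
    KRR.IsProjBundle ψ (Omega.conormal f) (Omega.conormal f₁) (conormalMap hsq.w) := by
  have : IsClosedImmersion f := hf.1
  have : IsClosedImmersion f₁ :=
    MorphismProperty.of_isPullback (P := @IsClosedImmersion) hsq.flip inferInstance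
  have hO1 : IsInv (Omega.conormal f₁) := isInv_pullback f₁ (isInv_idealMod (isEff_exc hφ hsq))
  have : Epi (conormalMap hsq.w) := epi_conormalMap hsq
  refine isProjBundle_of_chartCond ψ (conormalMap hsq.w) hO1 fun x => ?_
  obtain ⟨c, hx, -⟩ := Groth.Agent.Sga67.KosImm.exists_chart hf x ⊤ trivial
  let s : Fin c.l.length → Sec (ClSub.idealMod f.ker) c.U :=
    fun i => Groth.Agent.Sga67.KosConormal.fI c i
  have hs : ∀ i, val f.ker (s i) = c.f i := fun i => Groth.Agent.Sga67.KosConormal.vl_fI c i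
  have hs' : (fun i => val f.ker (s i)) = c.f := funext hs
  refine ⟨f ⁻¹ᵁ c.U, c.l.length, eN f s, hx, Groth.Agent.Sga67.KosConormal.isLocBasis_fN c, fun j => ?_⟩
  refine chartCond_exc hφ hsq ⟨c.U, c.hU⟩ s ?_ ?_ j
  · rw [hs', c.hker, Groth.Agent.Sga67.KosImm.Chart.ofList_eq_span]
    rfl
  · rw [hs']
    refine Groth.Agent.Sga67.BlowReg.isQuasiRegular_of_isWeaklyRegular _ ?_
    have : List.ofFn c.f = c.l := List.ofFn_get _
    rw [this]
    exact c.hl

end Groth.Agent.Krr.H496.ExcBundle
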