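import Groth.Agent.Grpsch.ConormalIso
import Groth.Agent.Krr.H487.LocBasisPull
import Groth.Agent.Fdesc.LocGenPullback
import Groth.Agent.Dix.IdealModCartier

/-!
# The conormal map of a commutative square, on sections

For `i : Z ⟶ X`, `i' : Z' ⟶ X'`, `g : X' ⟶ X`, `h : Z' ⟶ Z` with `i' ≫ g = h ≫ i`:
* `idMap w : g^* (idealMod i.ker) ⟶ idealMod i'.ker`, with `val_idMap`: on sections it is `g.app`;
* `conormalMap_pbS`: `conormalMap w (h^* i^* s) = i'^* (idMap w (g^* s))`.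
-/

set_option autoImplicit false
universe u

open CategoryTheory CategoryTheory.Limits AlgebraicGeometry Opposite TopologicalSpace

namespace Groth.Agent.Krr.H496.ConMapSec

open Groth.Agent.Sga67.Sec Groth.Agent.Krr.H487.LocBasisPull
open Groth.Agent.Smoothlim.ConormalRes Groth.Agent.Grpsch.ConormalStalk
open Groth.Agent.Grpsch.ConormalIso Groth.Agent.Dix.IdealModCartier

theorem congr_sec {T X : Scheme.{u}} {g1 g2 : T ⟶ X} (hg : g1 = g2) (M : X.Modules) {U : X.Opens}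
    (m : Sec M U) {W : T.Opens} (h1 : W ≤ g1 ⁻¹ᵁ U) (h2 : W ≤ g2 ⁻¹ᵁ U) :
    appS ((Scheme.Modules.pullbackCongr hg).hom.app M) W (res _ h1 (pbS g1 M m)) =
      res _ h2 (pbS g2 M m) := by
  subst hg
  rfl

variable {Z X Z' X' : Scheme.{u}} {i : Z ⟶ X} {i' : Z' ⟶ X'} {g : X' ⟶ X} {h : Z' ⟶ Z}

theorem idealModKerIso_hom_ι (i : Z ⟶ X) [QuasiCompact i] :
    (idealModKerIso i).hom ≫ kernel.ι (ClSub.unitToPush i) = ClSub.idealModι i.ker := by
  unfold idealModKerIso Groth.Agent.Smoothlim.ModKer.kernelIso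
  exact kernel.lift_ι _ _ _

theorem idealModKerIso_inv_ι (i : Z ⟶ X) [QuasiCompact i] :
    (idealModKerIso i).inv ≫ ClSub.idealModι i.ker = kernel.ι (ClSub.unitToPush i) := by
  rw [← idealModKerIso_hom_ι, Iso.inv_hom_id_assoc]

/-- The natural map `g^* (idealMod i.ker) ⟶ idealMod i'.ker`. -/
noncomputable def idMap (w : i' ≫ g = h ≫ i) [QuasiCompact i] [QuasiCompact i'] :
    (Scheme.Modules.pullback g).obj (ClSub.idealMod i.ker) ⟶ ClSub.idealMod i'.ker :=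
  (Scheme.Modules.pullback g).map (idealModKerIso i).hom ≫ psi w ≫ (idealModKerIso i').inv

theorem val_idMap (w : i' ≫ g = h ≫ i) [QuasiCompact i] [QuasiCompact i'] {U : X.Opens}
    (s : Sec (ClSub.idealMod i.ker) U) :
    val i'.ker (appS (idMap w) (g ⁻¹ᵁ U) (pbS g _ s)) = g.app U (val i.ker s) := by
  have h1 : idMap w ≫ ClSub.idealModι i'.ker =
      (Scheme.Modules.pullback g).map (idealModKerIso i).hom ≫
        adj g (kernel.ι (ClSub.unitToPush i) ≫ ClSub.unitToPush g) := by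
    unfold idMap
    rw [Category.assoc, Category.assoc, idealModKerIso_inv_ι]
    congr 1
    exact kernel.lift_ι _ _ _
  have h2 : val i'.ker (appS (idMap w) (g ⁻¹ᵁ U) (pbS g _ s)) =
      appS (idMap w ≫ ClSub.idealModι i'.ker) (g ⁻¹ᵁ U) (pbS g _ s) := rfl
  rw [h2, h1, appS_comp, appS_pbS, adj_pbS]
  have h3 : appS (kernel.ι (ClSub.unitToPush i)) U (appS (idealModKerIso i).hom U s) =
      val i.ker s := by
    rw [← appS_comp, idealModKerIso_hom_ι]
    rfl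
  exact congrArg (g.app U) h3

/-- The conormal map on sections. -/
theorem conormalMap_pbS (w : i' ≫ g = h ≫ i) [QuasiCompact i] [QuasiCompact i'] {U : X.Opens}
    (s : Sec (ClSub.idealMod i.ker) U) {W : Z'.Opens} (h1 : W ≤ h ⁻¹ᵁ (i ⁻¹ᵁ U))
    (h2 : W ≤ i' ⁻¹ᵁ (g ⁻¹ᵁ U)) :
    res (Omega.conormal i') h1 (appS (conormalMap w) (h ⁻¹ᵁ (i ⁻¹ᵁ U))
      (pbS h (Omega.conormal i) (pbS i (ClSub.idealMod i.ker) s))) =
    res (Omega.conormal i') h2 (pbS i' (ClSub.idealMod i'.ker)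
      (appS (idMap w) (g ⁻¹ᵁ U) (pbS g _ s))) := by
  let κ := idealModKerIso i
  let κ' := idealModKerIso i'
  let K := kernel (ClSub.unitToPush i)
  let α : (Scheme.Modules.pullback h).obj (Omega.conormal i) ⟶
      (Scheme.Modules.pullback (h ≫ i)).obj K :=
    (Scheme.Modules.pullback h).map ((Scheme.Modules.pullback i).map κ.hom) ≫
      (Scheme.Modules.pullbackComp h i).hom.app K
  let β : (Scheme.Modules.pullback (h ≫ i)).obj K ⟶ (Scheme.Modules.pullback (i' ≫ g)).obj K :=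
    (Scheme.Modules.pullbackCongr w.symm).hom.app K
  let γ : (Scheme.Modules.pullback (i' ≫ g)).obj K ⟶ Omega.conormal i' :=
    (Scheme.Modules.pullbackComp i' g).inv.app K ≫ (Scheme.Modules.pullback i').map (psi w) ≫
      (Scheme.Modules.pullback i').map κ'.inv
  have e0 : conormalMap w = α ≫ β ≫ γ := by
    unfold conormalMap cmpIso
    simp only [Iso.trans_hom, Functor.mapIso_hom, Iso.app_hom, Iso.symm_hom, Iso.app_inv,
      Category.assoc, κ, κ', K, α, β, γ]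
  have e1 : appS α (h ⁻¹ᵁ (i ⁻¹ᵁ U))
      (pbS h (Omega.conormal i) (pbS i (ClSub.idealMod i.ker) s)) =
      (show Sec ((Scheme.Modules.pullback (h ≫ i)).obj K) (h ⁻¹ᵁ (i ⁻¹ᵁ U)) from
        pbS (h ≫ i) K (appS κ.hom U s)) := by
    have e2 : appS ((Scheme.Modules.pullback h).map ((Scheme.Modules.pullback i).map κ.hom))
        (h ⁻¹ᵁ (i ⁻¹ᵁ U)) (pbS h (Omega.conormal i) (pbS i (ClSub.idealMod i.ker) s)) =
        pbS h _ (pbS i K (appS κ.hom U s)) :=
      (appS_pbS h ((Scheme.Modules.pullback i).map κ.hom) _).trans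
        (congrArg (pbS h _) (appS_pbS i κ.hom s))
    exact (congrArg (appS ((Scheme.Modules.pullbackComp h i).hom.app K) (h ⁻¹ᵁ (i ⁻¹ᵁ U))) e2).trans
      (Groth.Agent.Fdesc.LocGen.pullSec_comp' h i (appS κ.hom U s))
  have e1' : appS α W (res _ h1 (pbS h (Omega.conormal i) (pbS i (ClSub.idealMod i.ker) s))) =
      res ((Scheme.Modules.pullback (h ≫ i)).obj K) (U := (h ≫ i) ⁻¹ᵁ U) h1
        (pbS (h ≫ i) K (appS κ.hom U s)) :=
    (appS_res α h1 _).trans (congrArg (res _ h1) e1)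
  have e3 := congr_sec w.symm K (appS κ.hom U s) (W := W) h1 h2
  have e4 : appS γ ((i' ≫ g) ⁻¹ᵁ U) (pbS (i' ≫ g) K (appS κ.hom U s)) =
      (show Sec (Omega.conormal i') ((i' ≫ g) ⁻¹ᵁ U) from pbS i' (ClSub.idealMod i'.ker)
      (appS (idMap w) (g ⁻¹ᵁ U) (pbS g _ s))) := by
    have f1 : appS ((Scheme.Modules.pullbackComp i' g).inv.app K) ((i' ≫ g) ⁻¹ᵁ U)
        (pbS (i' ≫ g) K (appS κ.hom U s)) =
        (show Sec ((Scheme.Modules.pullback i').obj ((Scheme.Modules.pullback g).obj K))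
          ((i' ≫ g) ⁻¹ᵁ U) from pbS i' _ (pbS g K (appS κ.hom U s))) :=
      Groth.Agent.Fdesc.LocGen.pullSec_comp i' g (appS κ.hom U s)
    have f2 : appS ((Scheme.Modules.pullback i').map (psi w)) ((i' ≫ g) ⁻¹ᵁ U)
        (pbS i' _ (pbS g K (appS κ.hom U s))) = pbS i' _ (appS (psi w) (g ⁻¹ᵁ U)
          (pbS g K (appS κ.hom U s))) := appS_pbS i' (psi w) (pbS g K (appS κ.hom U s))
    have f3 : appS ((Scheme.Modules.pullback i').map κ'.inv) ((i' ≫ g) ⁻¹ᵁ U)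
        (pbS i' _ (appS (psi w) (g ⁻¹ᵁ U) (pbS g K (appS κ.hom U s)))) =
        pbS i' _ (appS κ'.inv (g ⁻¹ᵁ U) (appS (psi w) (g ⁻¹ᵁ U) (pbS g K (appS κ.hom U s)))) :=
      appS_pbS i' κ'.inv (appS (psi w) (g ⁻¹ᵁ U) (pbS g K (appS κ.hom U s)))
    have f4 : appS (idMap w) (g ⁻¹ᵁ U) (pbS g _ s) =
        appS κ'.inv (g ⁻¹ᵁ U) (appS (psi w) (g ⁻¹ᵁ U) (pbS g K (appS κ.hom U s))) := by
      unfold idMap
      rw [appS_comp, appS_comp, appS_pbS]
    refine Eq.trans ?_ (congrArg (pbS i' (ClSub.idealMod i'.ker)) f4.symm)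
    refine Eq.trans ?_ f3
    refine Eq.trans ?_ (congrArg (appS ((Scheme.Modules.pullback i').map κ'.inv)
      ((i' ≫ g) ⁻¹ᵁ U)) f2)
    exact congrArg (fun y => appS ((Scheme.Modules.pullback i').map κ'.inv) ((i' ≫ g) ⁻¹ᵁ U)
      (appS ((Scheme.Modules.pullback i').map (psi w)) ((i' ≫ g) ⁻¹ᵁ U) y)) f1
  rw [← appS_res, e0]
  have e5 : appS γ W (res _ h2 (pbS (i' ≫ g) K (appS κ.hom U s))) =
      res (Omega.conormal i') (U := (i' ≫ g) ⁻¹ᵁ U) h2 (pbS i' (ClSub.idealMod i'.ker)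
      (appS (idMap w) (g ⁻¹ᵁ U) (pbS g _ s))) := (appS_res γ h2 _).trans (congrArg (res _ h2) e4)
  refine Eq.trans ?_ e5
  refine Eq.trans ?_ (congrArg (appS γ W) e3)
  exact congrArg (fun y => appS γ W (appS β W y)) e1'

end Groth.Agent.Krr.H496.ConMapSec
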