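import Groth.Agent.Krr.H496.ExcCoord
import Groth.Agent.Sga67.BlowReg

/-!
# Charts of a blow-up in terms of functions
-/

set_option autoImplicit false
universe u

open CategoryTheory CategoryTheory.Limits AlgebraicGeometry Opposite TopologicalSpace BlowUp

namespace Groth.Agent.Krr.H496.ExcChart

open Groth.Agent.Divis Groth.Agent.Divis.IdealComap Groth.Agent.Divis.BlowChart
open Groth.Agent.Dix.IdealModCartier

variable {Y Z T T' : Scheme.{u}} (V : Y.affineOpens)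

theorem appLE_fromSpec_top : V.2.fromSpec.appLE V.1 ⊤ (by rw [V.2.fromSpec_preimage_self]) =
    (Scheme.ΓSpecIso Γ(Y, V.1)).inv := by
  rw [Scheme.Hom.appLE, IsAffineOpen.fromSpec_app_self, Category.assoc, ← Functor.map_comp]
  have h0 : ∀ g : Opposite.op (⊤ : (Spec Γ(Y, V.1)).Opens) ⟶ Opposite.op ⊤,
    (Spec Γ(Y, V.1)).presheaf.map g = 𝟙 _ := fun g => by
      rw [Subsingleton.elim g (𝟙 _), CategoryTheory.Functor.map_id]
  rw [h0, Category.comp_id]

/-- The ring map of a morphism to `Spec Γ(Y, V)`. -/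
theorem glob_eq (m : T ⟶ Spec (CommRingCat.of Γ(Y, V.1))) {g : T ⟶ Y}
    (hg : m ≫ V.2.fromSpec = g) (h : ⊤ ≤ g ⁻¹ᵁ V.1) :
    glob (A := Γ(Y, V.1)) m = (g.appLE V.1 ⊤ h).hom := by
  subst hg
  rw [← Scheme.Hom.appLE_comp_appLE m V.2.fromSpec V.1 ⊤ ⊤
    (by rw [V.2.fromSpec_preimage_self]) le_top, appLE_fromSpec_top]
  unfold glob
  congr 2
  rw [Scheme.Hom.appLE]
  simp

theorem exists_fac (g : T ⟶ Y) (hg : ⊤ ≤ g ⁻¹ᵁ V.1) :
    ∃ m : T ⟶ Spec (CommRingCat.of Γ(Y, V.1)), m ≫ V.2.fromSpec = g := by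
  refine ⟨IsOpenImmersion.lift V.2.fromSpec g ?_, IsOpenImmersion.lift_fac _ _ _⟩
  rintro _ ⟨y, rfl⟩
  rw [V.2.range_fromSpec]
  exact hg (show y ∈ (⊤ : T.Opens) from trivial)

/-- Lifting to the chart `Spec A[J/a]`. -/
theorem exists_lift {I : Y.IdealSheafData} {J : Ideal Γ(Y, V.1)} (hJ : I.ideal V = J)
    (a : Γ(Y, V.1)) (g : T ⟶ Y) (hg : ⊤ ≤ g ⁻¹ᵁ V.1)
    (hgen : GenOn (I.comap g) ((g.appLE V.1 ⊤ hg).hom a)) :
    ∃ l : T ⟶ Spec (CommRingCat.of ↥(affineAlgebra Γ(Y, V.1) J a)),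
      l ≫ chartMap J a ≫ V.2.fromSpec = g := by
  obtain ⟨m, hm⟩ := exists_fac V g hg
  have h1 := glob_eq V m hm hg
  have h2 : (idl (A := Γ(Y, V.1)) J).comap m = I.comap g := by
    rw [← hJ, ← Sga67.BlowCover.comap_fromSpec, ← Scheme.IdealSheafData.comap_comp, hm]
  obtain ⟨l, hl⟩ := BlowChart.exists_lift J a m
    (by
      apply regSec_of_affine
      intro y
      obtain ⟨W, hyW, hW⟩ := exists_affine_mem_le (⊤ : T.Opens) y trivial
      refine ⟨W, hyW, ?_⟩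
      rw [h1]
      exact (hgen W hW).1)
    (by
      intro y
      obtain ⟨W, hyW, hW⟩ := exists_affine_mem_le (⊤ : T.Opens) y trivial
      refine ⟨W, hyW, ?_⟩
      rw [h1, h2]
      exact (hgen W hW).2.le)
  exact ⟨l, by rw [← Category.assoc, hl, hm]⟩

section Chart

variable {n : ℕ} (t : Fin n → Γ(Y, V.1)) (j : Fin n)

/-- Two morphisms to the chart agree if they agree over the base and on the fractions. -/
theorem chart_hom_ext {m m' : T ⟶ Spec (CommRingCat.of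
    ↥(affineAlgebra Γ(Y, V.1) (Ideal.span (Set.range t)) (t j)))}
    (h : m ≫ chartMap (Ideal.span (Set.range t)) (t j) ≫ V.2.fromSpec =
      m' ≫ chartMap (Ideal.span (Set.range t)) (t j) ≫ V.2.fromSpec)
    (hfr : ∀ i, glob m (Sga67.BlowQuot.fr t j i) = glob m' (Sga67.BlowQuot.fr t j i)) : m = m' := by
  apply hom_ext_glob
  have h1 : m ≫ chartMap (Ideal.span (Set.range t)) (t j) =
      m' ≫ chartMap (Ideal.span (Set.range t)) (t j) := by
    rw [← cancel_mono V.2.fromSpec, Category.assoc, Category.assoc, h]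
  have h2 : (glob m).comp (algebraMap Γ(Y, V.1) _) = (glob m').comp (algebraMap Γ(Y, V.1) _) := by
    rw [← glob_map, ← glob_map, h1]
  have h3 : (glob m).comp (Sga67.BlowQuot.Φ t j).toRingHom =
      (glob m').comp (Sga67.BlowQuot.Φ t j).toRingHom := by
    apply MvPolynomial.ringHom_ext
    · intro r
      have := congr($h2 r)
      simpa [Sga67.BlowQuot.Φ] using this
    · intro i
      simpa [Sga67.BlowQuot.Φ] using hfr i.1
  ext b
  obtain ⟨F, rfl⟩ := Sga67.BlowQuot.Φ_surjective t j b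
  exact congr($h3 F)

/-- Ring maps out of the chart algebra killing the exceptional ideal. -/
theorem exists_ringHom (hqr : CAlgX.IsQuasiRegular t) {R : Type u} [CommRing R]
    (ρ : Γ(Y, V.1) →+* R) (hρ : ∀ x ∈ Ideal.span (Set.range t), ρ x = 0) (a : Fin n → R)
    (ha : a j = 1) : ∃ β : ↥(affineAlgebra Γ(Y, V.1) (Ideal.span (Set.range t)) (t j)) →+* R,
      β.comp (algebraMap _ _) = ρ ∧ ∀ i, β (Sga67.BlowQuot.fr t j i) = a i := by
  let θ : MvPolynomial {i : Fin n // i ≠ j} Γ(Y, V.1) →+* R :=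
    MvPolynomial.eval₂Hom ρ (fun i => a i.1)
  have hker : ∀ F, Sga67.BlowQuot.Φ t j F = 0 → θ F = 0 := by
    intro F hF
    have h1 := Sga67.BlowQuot.coeff_mem_of_dvd j hqr F 0 (by rw [hF, mul_zero])
    change MvPolynomial.eval₂ ρ (fun i => a i.1) F = 0
    rw [MvPolynomial.eval₂_eq]
    refine Finset.sum_eq_zero fun m _ => ?_
    rw [hρ _ (h1 m), zero_mul]
  let β := (Sga67.BlowQuot.Φ t j).toRingHom.liftOfSurjective (Sga67.BlowQuot.Φ_surjective t j)
    ⟨θ, fun F hF => hker F hF⟩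
  have hβ : ∀ F, β (Sga67.BlowQuot.Φ t j F) = θ F := fun F =>
    RingHom.liftOfRightInverse_comp_apply _ _ _ ⟨θ, fun F hF => hker F hF⟩ F
  refine ⟨β, ?_, fun i => ?_⟩
  · ext x
    have := hβ (MvPolynomial.C x)
    simpa [Sga67.BlowQuot.Φ, θ] using this
  · by_cases h : i = j
    · subst h
      rw [Sga67.BlowQuot.fr_self, map_one, ha]
    · have := hβ (MvPolynomial.X ⟨i, h⟩)
      simpa [Sga67.BlowQuot.Φ, θ] using this

end Chart

section Blow

open Groth.Agent.Sga67.Sec Groth.Agent.Sga67.LocBasis Groth.Agent.Krr.H487.LocBasisPull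
open Groth.Agent.Krr.H496.GenLocus Groth.Agent.Krr.H496.ExcCoord

variable {V}
variable {I : Y.IdealSheafData} {φ : Z ⟶ Y} {n : ℕ} {t : Fin n → Γ(Y, V.1)} {j : Fin n}
  {D : Z.IdealSheafData} {σ : Fin n → Sec (ClSub.idealMod D) (φ ⁻¹ᵁ V.1)}

/-- On the locus where `σ j` generates the exceptional ideal, `t j` is a generator. -/
theorem genOn_locus (hσ : ∀ i, val D (σ i) = φ.app V.1 (t i)) :
    GenOn D ((φ.appLE V.1 (genLocus (σ j)) (genLocus_le (σ j))).hom (t j)) := by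
  have h1 : Groth.Agent.Fdesc.LocGen.IsGen (Groth.Agent.Fdesc.LocGen.res _ (genLocus_le (σ j)) (σ j)) :=
    isGen_iff.1 (isGen_genLocus (σ j))
  have h2 := genOn_of_isGen h1
  rw [val_res, hσ] at h2
  exact h2

/-- The coordinates satisfy `y i * t j = t i`. -/
theorem coord_mul (hσ : ∀ i, val D (σ i) = φ.app V.1 (t i)) {W : Z.Opens} {y : Fin n → Γ(Z, W)}
    (hy : CoordFam σ j W y) (i : Fin n) :
    y i * (φ.appLE V.1 W hy.le).hom (t j) = (φ.appLE V.1 W hy.le).hom (t i) := by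
  have h1 := congrArg (val D) (hy.eq i)
  have h2 : val D (y i • res _ hy.le (σ j)) = y i * val D (res _ hy.le (σ j)) := val_smul D _ _
  have h3 : ∀ k, val D (res _ hy.le (σ k)) = (φ.appLE V.1 W hy.le).hom (t k) := by
    intro k
    refine (val_res D hy.le (σ k)).trans ?_
    rw [hσ]
    rfl
  rw [h2, h3, h3] at h1
  exact h1

/-- The chart locus maps to the chart. -/
theorem exists_toChart (hφ : IsEffCartierIdeal (I.comap φ)) (hD : D = I.comap φ)
    (hJ : I.ideal V = Ideal.span (Set.range t)) (hσ : ∀ i, val D (σ i) = φ.app V.1 (t i)) :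
    ∃ l : (genLocus (σ j) : Scheme.{u}) ⟶ Spec (CommRingCat.of
      ↥(affineAlgebra Γ(Y, V.1) (Ideal.span (Set.range t)) (t j))),
      l ≫ chartMap (Ideal.span (Set.range t)) (t j) ≫ V.2.fromSpec = (genLocus (σ j)).ι ≫ φ := by
  have hg : (⊤ : (genLocus (σ j) : Scheme.{u}).Opens) ≤ ((genLocus (σ j)).ι ≫ φ) ⁻¹ᵁ V.1 := by
    rw [Scheme.Hom.comp_preimage, ← (genLocus (σ j)).ι_preimage_self]
    exact (genLocus (σ j)).ι.preimage_mono (genLocus_le (σ j))
  refine exists_lift V hJ (t j) _ hg ?_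
  rw [Scheme.IdealSheafData.comap_comp, ← hD]
  have hE : IsEffCartierIdeal (D.comap (genLocus (σ j)).ι) :=
    EffCartier.isEff_comap_flat (hD ▸ hφ) _
  have h1 := (GenOn.comap (genLocus (σ j)).ι hE (genOn_locus (j := j) hσ)).res
    ((genLocus (σ j)).ι_preimage_self.ge)
  have h2 : (((genLocus (σ j)).ι ≫ φ).appLE V.1 ⊤ hg).hom (t j) =
      Groth.Agent.Fdesc.LocGen.ores ((genLocus (σ j)).ι_preimage_self.ge)
        ((genLocus (σ j)).ι.app (genLocus (σ j))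
          ((φ.appLE V.1 (genLocus (σ j)) (genLocus_le (σ j))).hom (t j))) := by
    rw [← Scheme.Hom.appLE_comp_appLE (genLocus (σ j)).ι φ V.1 (genLocus (σ j)) ⊤
      (genLocus_le (σ j)) ((genLocus (σ j)).ι_preimage_self.ge)]
    rfl
  rw [h2]
  exact h1

/-- The chart maps to the blow-up. -/
theorem exists_ofChart (hφ : IsBlowUp φ I) (hJ : I.ideal V = Ideal.span (Set.range t)) :
    ∃ c : Spec (CommRingCat.of ↥(affineAlgebra Γ(Y, V.1) (Ideal.span (Set.range t)) (t j))) ⟶ Z,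
      c ≫ φ = chartMap (Ideal.span (Set.range t)) (t j) ≫ V.2.fromSpec := by
  have hE : IsEffCartierIdeal (I.comap (chartMap (Ideal.span (Set.range t)) (t j) ≫
      V.2.fromSpec)) := by
    rw [Scheme.IdealSheafData.comap_comp, Sga67.BlowCover.comap_fromSpec, hJ]
    exact isEffCartier_chartMap (Ideal.span (Set.range t)) (t j)
      (Ideal.subset_span (Set.mem_range_self j))
  exact (hφ.2 _ _ hE).exists

theorem toChart_ofChart (hφ : IsBlowUp φ I)
    {l : (genLocus (σ j) : Scheme.{u}) ⟶ Spec (CommRingCat.of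
      ↥(affineAlgebra Γ(Y, V.1) (Ideal.span (Set.range t)) (t j)))}
    (hl : l ≫ chartMap (Ideal.span (Set.range t)) (t j) ≫ V.2.fromSpec = (genLocus (σ j)).ι ≫ φ)
    {c : Spec (CommRingCat.of ↥(affineAlgebra Γ(Y, V.1) (Ideal.span (Set.range t)) (t j))) ⟶ Z}
    (hc : c ≫ φ = chartMap (Ideal.span (Set.range t)) (t j) ≫ V.2.fromSpec) :
    l ≫ c = (genLocus (σ j)).ι := by
  have hE : IsEffCartierIdeal (I.comap ((genLocus (σ j)).ι ≫ φ)) := by
    rw [Scheme.IdealSheafData.comap_comp]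
    exact EffCartier.isEff_comap_flat hφ.1 _
  exact (hφ.2 _ _ hE).unique (by rw [Category.assoc, hc, hl]) rfl

/-- If a product generates, the factor is invertible. -/
theorem mem_basicOpen_of_genOn_mul {D : Z.IdealSheafData} {U : Z.Opens} {a b r : Γ(Z, U)}
    (ha : GenOn D a) (hb : GenOn D b) (h : a = r * b) {x : Z} (hx : x ∈ U) :
    x ∈ Z.basicOpen r := by
  obtain ⟨W, hxW, hW⟩ := exists_affine_mem_le U x hx
  have h1 : Groth.Agent.Fdesc.LocGen.ores hW b ∈ Ideal.span {Groth.Agent.Fdesc.LocGen.ores hW a} := by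
    rw [← (ha W hW).2, (hb W hW).2]
    exact Ideal.mem_span_singleton_self _
  obtain ⟨s, hs⟩ := Ideal.mem_span_singleton.1 h1
  have h2 : (Groth.Agent.Fdesc.LocGen.ores hW r * s) * Groth.Agent.Fdesc.LocGen.ores hW b =
      1 * Groth.Agent.Fdesc.LocGen.ores hW b := by
    rw [one_mul]
    conv_rhs => rw [hs, h, map_mul]
    ring
  have h3 := (mul_cancel_right_mem_nonZeroDivisors (hb W hW).1).1 h2
  have h4 : IsUnit (Groth.Agent.Fdesc.LocGen.ores hW r) := IsUnit.of_mul_eq_one _ h3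
  have h5 : x ∈ Z.basicOpen (Groth.Agent.Fdesc.LocGen.ores hW r) := by
    rw [Scheme.basicOpen_of_isUnit _ h4]
    exact hxW
  have h6 : Z.basicOpen (Groth.Agent.Fdesc.LocGen.ores hW r) = W.1 ⊓ Z.basicOpen r :=
    Z.basicOpen_res r (homOfLE hW).op
  rw [h6] at h5
  exact h5.2

/-- Criterion to land in the locus where a section of an ideal module generates. -/
theorem le_preimage_genLocus {D : Z.IdealSheafData} (hD : IsEffCartierIdeal D) {U : Z.Opens}
    (σ : Sec (ClSub.idealMod D) U) (c : T ⟶ Z) (hc : IsEffCartierIdeal (D.comap c)) {W : T.Opens}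
    (hW : W ≤ c ⁻¹ᵁ U) (h : GenOn (D.comap c) ((c.appLE U W hW).hom (val D σ))) :
    W ≤ c ⁻¹ᵁ (genLocus σ) := by
  intro x hx
  obtain ⟨U', b, hxU', hb⟩ := exists_genOn hD (c x)
  obtain ⟨β, hβ⟩ := exists_val_eq D U' (a := b) (by
    have := (hb U' le_rfl).2
    rw [Groth.Agent.Fdesc.LocGen.ores_refl] at this
    rw [this]; exact Ideal.mem_span_singleton_self _)
  have hβg : GenLocus.IsGen (L := ClSub.idealMod D) (U := U'.1) β :=
    isGen_iff.2 (isGen_of_genOn (hβ.symm ▸ hb))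
  have hle : U'.1 ⊓ U ≤ U'.1 := inf_le_left
  have hle' : U'.1 ⊓ U ≤ U := inf_le_right
  obtain ⟨r, hr⟩ := (hβg.res hle).exists_smul (Groth.Agent.Sga67.Sec.res _ hle' σ)
  refine basicOpen_le_genLocus hle' (hβg.res hle) hr ?_
  have h1 := congrArg (val D) hr
  have h2 : val D (r • Groth.Agent.Sga67.Sec.res _ hle β) =
    r * val D (Groth.Agent.Sga67.Sec.res _ hle β) := val_smul D _ _
  have h3 : val D (Groth.Agent.Sga67.Sec.res _ hle β) = Groth.Agent.Fdesc.LocGen.ores hle b := by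
    rw [← hβ]; exact val_res D hle β
  have h4 : val D (Groth.Agent.Sga67.Sec.res _ hle' σ) =
    Groth.Agent.Fdesc.LocGen.ores hle' (val D σ) := val_res D hle' σ
  rw [h2, h3, h4] at h1
  have hx1 : x ∈ W ⊓ c ⁻¹ᵁ (U'.1 ⊓ U) := ⟨hx, hxU', hW hx⟩
  have e1 : W ⊓ c ⁻¹ᵁ (U'.1 ⊓ U) ≤ c ⁻¹ᵁ (U'.1 ⊓ U) := inf_le_right
  have g1 := (GenOn.comap c hc (hb.res hle)).res e1
  have g2 := h.res (inf_le_left : W ⊓ c ⁻¹ᵁ (U'.1 ⊓ U) ≤ W)
  have h5 : Groth.Agent.Fdesc.LocGen.ores (inf_le_left : W ⊓ c ⁻¹ᵁ (U'.1 ⊓ U) ≤ W)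
      ((c.appLE U W hW).hom (val D σ)) =
      Groth.Agent.Fdesc.LocGen.ores e1 (c.app (U'.1 ⊓ U) r : Γ(T, c ⁻¹ᵁ (U'.1 ⊓ U))) *
      Groth.Agent.Fdesc.LocGen.ores e1 (c.app (U'.1 ⊓ U) (Groth.Agent.Fdesc.LocGen.ores hle b) :
        Γ(T, c ⁻¹ᵁ (U'.1 ⊓ U))) := by
    rw [← map_mul]
    refine Eq.trans ?_ (congrArg (fun z => Groth.Agent.Fdesc.LocGen.ores e1
      (c.app (U'.1 ⊓ U) z : Γ(T, c ⁻¹ᵁ (U'.1 ⊓ U)))) h1.symm |>.trans ?_)
    · change (c.appLE U W hW ≫ T.presheaf.map (homOfLE _).op) (val D σ) =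
        (Z.presheaf.map (homOfLE hle').op ≫ c.app (U'.1 ⊓ U) ≫
          T.presheaf.map (homOfLE e1).op) (val D σ)
      rw [Scheme.Hom.appLE_map]
      change _ = (Z.presheaf.map (homOfLE hle').op ≫ c.appLE (U'.1 ⊓ U) _ e1) (val D σ)
      rw [Scheme.Hom.map_appLE]
    · exact congrArg _ (map_mul (c.app (U'.1 ⊓ U)).hom _ _)
  have h6 := mem_basicOpen_of_genOn_mul g2 g1 h5 hx1
  have h7 : T.basicOpen (Groth.Agent.Fdesc.LocGen.ores e1
      (c.app (U'.1 ⊓ U) r : Γ(T, c ⁻¹ᵁ (U'.1 ⊓ U)))) ≤ T.basicOpen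
        (c.app (U'.1 ⊓ U) r : Γ(T, c ⁻¹ᵁ (U'.1 ⊓ U))) := by
    have := T.basicOpen_res (c.app (U'.1 ⊓ U) r : Γ(T, c ⁻¹ᵁ (U'.1 ⊓ U))) (homOfLE e1).op
    exact this.le.trans inf_le_right
  have h8 := h7 h6
  rw [← Scheme.preimage_basicOpen] at h8
  exact h8

theorem glob_toChart (hφ : IsEffCartierIdeal (I.comap φ)) (hD : D = I.comap φ)
    (hσ : ∀ i, val D (σ i) = φ.app V.1 (t i)) {y : Fin n → Γ(Z, genLocus (σ j))}
    (hy : CoordFam σ j (genLocus (σ j)) y)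
    {l : (genLocus (σ j) : Scheme.{u}) ⟶ Spec (CommRingCat.of
      ↥(affineAlgebra Γ(Y, V.1) (Ideal.span (Set.range t)) (t j)))}
    (hl : l ≫ chartMap (Ideal.span (Set.range t)) (t j) ≫ V.2.fromSpec = (genLocus (σ j)).ι ≫ φ)
    (i : Fin n) : glob l (Sga67.BlowQuot.fr t j i) =
      ((genLocus (σ j)).ι.appLE (genLocus (σ j)) ⊤ ((genLocus (σ j)).ι_preimage_self.ge)).hom
        (y i) := by
  have hg : (⊤ : (genLocus (σ j) : Scheme.{u}).Opens) ≤ ((genLocus (σ j)).ι ≫ φ) ⁻¹ᵁ V.1 := by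
    rw [Scheme.Hom.comp_preimage, ← (genLocus (σ j)).ι_preimage_self]
    exact (genLocus (σ j)).ι.preimage_mono (genLocus_le (σ j))
  have hE : IsEffCartierIdeal (D.comap (genLocus (σ j)).ι) :=
    EffCartier.isEff_comap_flat (hD ▸ hφ) _
  have h1 := (GenOn.comap (genLocus (σ j)).ι hE (genOn_locus (j := j) hσ)).res
    ((genLocus (σ j)).ι_preimage_self.ge)
  have h3 : ∀ x : Γ(Y, V.1), glob l (algebraMap _ _ x) =
      ((genLocus (σ j)).ι.appLE (genLocus (σ j)) ⊤ ((genLocus (σ j)).ι_preimage_self.ge)).hom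
        ((φ.appLE V.1 (genLocus (σ j)) (genLocus_le (σ j))).hom x) := by
    intro x
    have h4 := glob_map (algebraMap Γ(Y, V.1) ↥(affineAlgebra Γ(Y, V.1)
      (Ideal.span (Set.range t)) (t j))) l
    have h5 := glob_eq V (l ≫ chartMap (Ideal.span (Set.range t)) (t j)) (g := (genLocus (σ j)).ι ≫ φ)
      (by rw [Category.assoc, hl]) hg
    have h6 := congr($(h4.symm.trans h5) x)
    refine h6.trans ?_
    rw [← Scheme.Hom.appLE_comp_appLE (genLocus (σ j)).ι φ V.1 (genLocus (σ j)) ⊤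
      (genLocus_le (σ j)) ((genLocus (σ j)).ι_preimage_self.ge)]
    rfl
  refine h1.cancel ?_
  have h7 : glob l (Sga67.BlowQuot.fr t j i) *
      ((genLocus (σ j)).ι.appLE (genLocus (σ j)) ⊤ ((genLocus (σ j)).ι_preimage_self.ge)).hom
        ((φ.appLE V.1 (genLocus (σ j)) (genLocus_le (σ j))).hom (t j)) =
      ((genLocus (σ j)).ι.appLE (genLocus (σ j)) ⊤ ((genLocus (σ j)).ι_preimage_self.ge)).hom (y i) *
      ((genLocus (σ j)).ι.appLE (genLocus (σ j)) ⊤ ((genLocus (σ j)).ι_preimage_self.ge)).hom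
        ((φ.appLE V.1 (genLocus (σ j)) (genLocus_le (σ j))).hom (t j)) := by
    rw [← h3, ← map_mul, mul_comm, Sga67.BlowQuot.fr_spec, h3, h3, ← map_mul]
    congr 1
    exact (coord_mul hσ hy i).symm
  exact h7

/-- On the chart, `t j` generates the inverse image ideal. -/
theorem genOn_chart (hJ : I.ideal V = Ideal.span (Set.range t)) {c : Spec (CommRingCat.of
      ↥(affineAlgebra Γ(Y, V.1) (Ideal.span (Set.range t)) (t j))) ⟶ Z}
    (hc : c ≫ φ = chartMap (Ideal.span (Set.range t)) (t j) ≫ V.2.fromSpec) :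
    GenOn ((I.comap φ).comap c) (glob (chartMap (Ideal.span (Set.range t)) (t j)) (t j)) := by
  have h1 : (I.comap φ).comap c = (idl (A := Γ(Y, V.1)) (Ideal.span (Set.range t))).comap
      (chartMap (Ideal.span (Set.range t)) (t j)) := by
    rw [← Scheme.IdealSheafData.comap_comp, hc, Scheme.IdealSheafData.comap_comp,
      Sga67.BlowCover.comap_fromSpec, hJ]
  rw [h1]
  intro W hW
  exact ⟨(regSec_chartMap _ _).resT_mem W.1,
    comap_chartMap_ideal _ _ (Ideal.subset_span (Set.mem_range_self j)) W⟩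

theorem isEff_chart (hJ : I.ideal V = Ideal.span (Set.range t)) {c : Spec (CommRingCat.of
      ↥(affineAlgebra Γ(Y, V.1) (Ideal.span (Set.range t)) (t j))) ⟶ Z}
    (hc : c ≫ φ = chartMap (Ideal.span (Set.range t)) (t j) ≫ V.2.fromSpec) :
    IsEffCartierIdeal ((I.comap φ).comap c) := by
  rw [← Scheme.IdealSheafData.comap_comp, hc, Scheme.IdealSheafData.comap_comp,
    Sga67.BlowCover.comap_fromSpec, hJ]
  exact isEffCartier_chartMap (Ideal.span (Set.range t)) (t j)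
    (Ideal.subset_span (Set.mem_range_self j))

theorem le_preimage {c : Spec (CommRingCat.of
      ↥(affineAlgebra Γ(Y, V.1) (Ideal.span (Set.range t)) (t j))) ⟶ Z}
    (hc : c ≫ φ = chartMap (Ideal.span (Set.range t)) (t j) ≫ V.2.fromSpec) :
    (⊤ : (Spec (CommRingCat.of
      ↥(affineAlgebra Γ(Y, V.1) (Ideal.span (Set.range t)) (t j)))).Opens) ≤ c ⁻¹ᵁ (φ ⁻¹ᵁ V.1) := by
  rw [← Scheme.Hom.comp_preimage, hc, Scheme.Hom.comp_preimage, V.2.fromSpec_preimage_self]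
  rfl

theorem glob_chart {c : Spec (CommRingCat.of
      ↥(affineAlgebra Γ(Y, V.1) (Ideal.span (Set.range t)) (t j))) ⟶ Z}
    (hc : c ≫ φ = chartMap (Ideal.span (Set.range t)) (t j) ≫ V.2.fromSpec) (x : Γ(Y, V.1)) :
    glob (chartMap (Ideal.span (Set.range t)) (t j)) x =
      (c.appLE (φ ⁻¹ᵁ V.1) ⊤ (le_preimage hc)).hom (φ.app V.1 x) := by
  have h1 := glob_eq V (chartMap (Ideal.span (Set.range t)) (t j)) hc.symm (le_preimage hc)
  rw [h1, ← Scheme.Hom.appLE_comp_appLE c φ V.1 (φ ⁻¹ᵁ V.1) ⊤ le_rfl (le_preimage hc)]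
  have h2 : φ.appLE V.1 (φ ⁻¹ᵁ V.1) le_rfl = φ.app V.1 := by
    rw [Scheme.Hom.appLE]; simp
  rw [h2]
  rfl

theorem top_le_chart (hφ : IsEffCartierIdeal (I.comap φ)) (hD : D = I.comap φ)
    (hJ : I.ideal V = Ideal.span (Set.range t)) (hσ : ∀ i, val D (σ i) = φ.app V.1 (t i))
    {c : Spec (CommRingCat.of
      ↥(affineAlgebra Γ(Y, V.1) (Ideal.span (Set.range t)) (t j))) ⟶ Z}
    (hc : c ≫ φ = chartMap (Ideal.span (Set.range t)) (t j) ≫ V.2.fromSpec) :
    (⊤ : (Spec (CommRingCat.of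
      ↥(affineAlgebra Γ(Y, V.1) (Ideal.span (Set.range t)) (t j)))).Opens) ≤
      c ⁻¹ᵁ (genLocus (σ j)) := by
  subst hD
  refine le_preimage_genLocus hφ (σ j) c (isEff_chart hJ hc) (le_preimage hc) ?_
  rw [hσ, ← glob_chart hc]
  exact genOn_chart hJ hc

/-- The coordinate functions on the chart. -/
theorem appLE_chart (hφ : IsEffCartierIdeal (I.comap φ)) (hD : D = I.comap φ)
    (hJ : I.ideal V = Ideal.span (Set.range t)) (hσ : ∀ i, val D (σ i) = φ.app V.1 (t i))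
    {c : Spec (CommRingCat.of
      ↥(affineAlgebra Γ(Y, V.1) (Ideal.span (Set.range t)) (t j))) ⟶ Z}
    (hc : c ≫ φ = chartMap (Ideal.span (Set.range t)) (t j) ≫ V.2.fromSpec)
    {y : Fin n → Γ(Z, genLocus (σ j))} (hy : CoordFam σ j (genLocus (σ j)) y) (i : Fin n) :
    (c.appLE (genLocus (σ j)) ⊤ (top_le_chart hφ hD hJ hσ hc)).hom (y i) =
      glob (𝟙 _) (Sga67.BlowQuot.fr t j i) := by
  have h3 : ∀ x : Γ(Y, V.1), glob (chartMap (Ideal.span (Set.range t)) (t j)) x =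
      glob (𝟙 _) (algebraMap Γ(Y, V.1) ↥(affineAlgebra Γ(Y, V.1)
        (Ideal.span (Set.range t)) (t j)) x) := by
    intro x
    have h4 := glob_map (algebraMap Γ(Y, V.1) ↥(affineAlgebra Γ(Y, V.1)
      (Ideal.span (Set.range t)) (t j))) (𝟙 _)
    rw [Category.id_comp] at h4
    exact congr($h4 x)
  have h5 : ∀ x : Γ(Y, V.1), glob (chartMap (Ideal.span (Set.range t)) (t j)) x =
      (c.appLE (genLocus (σ j)) ⊤ (top_le_chart hφ hD hJ hσ hc)).hom
        ((φ.appLE V.1 (genLocus (σ j)) (genLocus_le (σ j))).hom x) := by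
    intro x
    have h1 := glob_eq V (chartMap (Ideal.span (Set.range t)) (t j)) hc.symm (le_preimage hc)
    rw [h1, ← Scheme.Hom.appLE_comp_appLE c φ V.1 (genLocus (σ j)) ⊤ (genLocus_le (σ j))
      (top_le_chart hφ hD hJ hσ hc)]
    rfl
  refine (genOn_chart hJ hc).cancel ?_
  have e1 : (c.appLE (genLocus (σ j)) ⊤ (top_le_chart hφ hD hJ hσ hc)).hom (y i) *
      glob (chartMap (Ideal.span (Set.range t)) (t j)) (t j) =
      glob (chartMap (Ideal.span (Set.range t)) (t j)) (t i) :=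
    (congrArg (fun z => (c.appLE (genLocus (σ j)) ⊤ (top_le_chart hφ hD hJ hσ hc)).hom (y i) * z)
      (h5 (t j))).trans ((map_mul (c.appLE (genLocus (σ j)) ⊤
        (top_le_chart hφ hD hJ hσ hc)).hom _ _).symm.trans
        ((congrArg (c.appLE (genLocus (σ j)) ⊤ (top_le_chart hφ hD hJ hσ hc)).hom
          (coord_mul hσ hy i)).trans (h5 (t i)).symm))
  have e2 : glob (𝟙 _) (Sga67.BlowQuot.fr t j i) *
      glob (chartMap (Ideal.span (Set.range t)) (t j)) (t j) =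
      glob (chartMap (Ideal.span (Set.range t)) (t j)) (t i) :=
    (congrArg (fun z => glob (𝟙 _) (Sga67.BlowQuot.fr t j i) * z) (h3 (t j))).trans
      ((mul_comm _ _).trans ((map_mul (glob (𝟙 _)) _ _).symm.trans
        ((congrArg (glob (𝟙 _)) (Sga67.BlowQuot.fr_spec t j i)).trans (h3 (t i)).symm)))
  exact e1.trans e2.symm

/-- **Uniqueness of morphisms to the blow-up with given coordinates.** -/
theorem hom_unique (hφ : IsBlowUp φ I) (hD : D = I.comap φ)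
    (hJ : I.ideal V = Ideal.span (Set.range t)) (hσ : ∀ i, val D (σ i) = φ.app V.1 (t i))
    {y : Fin n → Γ(Z, genLocus (σ j))} (hy : CoordFam σ j (genLocus (σ j)) y)
    {k k' : T ⟶ Z} (hkk : k ≫ φ = k' ≫ φ) (hk : ⊤ ≤ k ⁻¹ᵁ (genLocus (σ j)))
    (hk' : ⊤ ≤ k' ⁻¹ᵁ (genLocus (σ j)))
    (h : ∀ i, (k.appLE (genLocus (σ j)) ⊤ hk).hom (y i) =
      (k'.appLE (genLocus (σ j)) ⊤ hk').hom (y i)) : k = k' := by
  obtain ⟨l, hl⟩ := exists_toChart (j := j) hφ.1 hD hJ hσ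
  obtain ⟨c, hc⟩ := exists_ofChart (t := t) (j := j) hφ hJ
  have hlc := toChart_ofChart hφ hl hc
  have hgl := glob_toChart hφ.1 hD hσ hy hl
  have key : ∀ (k : T ⟶ Z) (hk : ⊤ ≤ k ⁻¹ᵁ (genLocus (σ j))), ∃ m : T ⟶ Spec (CommRingCat.of
      ↥(affineAlgebra Γ(Y, V.1) (Ideal.span (Set.range t)) (t j))), m ≫ c = k ∧
      m ≫ chartMap (Ideal.span (Set.range t)) (t j) ≫ V.2.fromSpec = k ≫ φ ∧
      ∀ i, glob m (Sga67.BlowQuot.fr t j i) = (k.appLE (genLocus (σ j)) ⊤ hk).hom (y i) := by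
    intro k hk
    have hr : Set.range k ⊆ Set.range (genLocus (σ j)).ι := by
      rintro _ ⟨x, rfl⟩
      rw [Scheme.Opens.range_ι]
      exact hk (show x ∈ (⊤ : T.Opens) from trivial)
    have hm : IsOpenImmersion.lift (genLocus (σ j)).ι k hr ≫ (genLocus (σ j)).ι = k :=
      IsOpenImmersion.lift_fac _ _ _
    refine ⟨IsOpenImmersion.lift (genLocus (σ j)).ι k hr ≫ l, ?_, ?_, fun i => ?_⟩
    · rw [Category.assoc, hlc, hm]
    · rw [Category.assoc, hl, ← Category.assoc, hm]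
    · rw [glob_comp, RingHom.comp_apply, hgl]
      have h1 : ∀ (k' : T ⟶ Z) (hk' : k = k'), (k.appLE (genLocus (σ j)) ⊤ hk).hom (y i) =
          (k'.appLE (genLocus (σ j)) ⊤ (hk' ▸ hk)).hom (y i) := by
        intro k' hk'
        subst hk'
        rfl
      rw [h1 _ hm.symm, ← Scheme.Hom.appLE_comp_appLE _ (genLocus (σ j)).ι (genLocus (σ j)) ⊤ ⊤
        ((genLocus (σ j)).ι_preimage_self.ge) le_top]
      have h2 : (IsOpenImmersion.lift (genLocus (σ j)).ι k hr).appLE ⊤ ⊤ le_top =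
        (IsOpenImmersion.lift (genLocus (σ j)).ι k hr).appTop := by
        rw [Scheme.Hom.appLE]; simp
      rw [h2]
      rfl
  obtain ⟨m, hm1, hm2, hm3⟩ := key k hk
  obtain ⟨m', hm1', hm2', hm3'⟩ := key k' hk'
  have hmm : m = m' := chart_hom_ext V t j (by rw [hm2, hm2', hkk])
    fun i => by rw [hm3, hm3', h]
  rw [← hm1, ← hm1', hmm]

/-- **Existence of morphisms to the exceptional divisor with given coordinates.** -/
theorem hom_exists (hφ : IsBlowUp φ I) (hD : D = I.comap φ)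
    (hJ : I.ideal V = Ideal.span (Set.range t)) (hσ : ∀ i, val D (σ i) = φ.app V.1 (t i))
    (hqr : CAlgX.IsQuasiRegular t)
    {y : Fin n → Γ(Z, genLocus (σ j))} (hy : CoordFam σ j (genLocus (σ j)) y)
    {g : T ⟶ Y} (hg : ⊤ ≤ g ⁻¹ᵁ V.1)
    (hker : ∀ x ∈ Ideal.span (Set.range t), (g.appLE V.1 ⊤ hg).hom x = 0)
    (a : Fin n → Γ(T, ⊤)) (ha : a j = 1) :
    ∃ k : T ⟶ Z, k ≫ φ = g ∧ ∃ hk : ⊤ ≤ k ⁻¹ᵁ (genLocus (σ j)),
      ∀ i, a i = (k.appLE (genLocus (σ j)) ⊤ hk).hom (y i) := by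
  obtain ⟨c, hc⟩ := exists_ofChart (t := t) (j := j) hφ hJ
  obtain ⟨β, hβ, hβa⟩ := exists_ringHom V t j hqr (g.appLE V.1 ⊤ hg).hom hker a ha
  let w : T ⟶ Spec (CommRingCat.of
      ↥(affineAlgebra Γ(Y, V.1) (Ideal.span (Set.range t)) (t j))) :=
    T.toSpecΓ ≫ Spec.map (CommRingCat.ofHom β)
  have hw : glob w = β := glob_toSpecΓ_map β
  have hk : (⊤ : T.Opens) ≤ (w ≫ c) ⁻¹ᵁ (genLocus (σ j)) := by
    rw [Scheme.Hom.comp_preimage]
    exact (w.preimage_mono (top_le_chart hφ.1 hD hJ hσ hc))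
  refine ⟨w ≫ c, ?_, hk, fun i => ?_⟩
  · obtain ⟨m, hm⟩ := exists_fac V g hg
    rw [Category.assoc, hc, ← Category.assoc, ← hm]
    congr 1
    apply hom_ext_glob
    rw [glob_map, hw, hβ, glob_eq V m hm hg]
  · rw [← Scheme.Hom.appLE_comp_appLE w c (genLocus (σ j)) ⊤ ⊤
      (top_le_chart hφ.1 hD hJ hσ hc) le_top, ← hβa i, ← hw]
    have h1 := glob_comp w (𝟙 (Spec (CommRingCat.of
      ↥(affineAlgebra Γ(Y, V.1) (Ideal.span (Set.range t)) (t j)))))
    rw [Category.comp_id] at h1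
    rw [h1, RingHom.comp_apply, ← appLE_chart hφ.1 hD hJ hσ hc hy i]
    have h2 : w.appLE ⊤ ⊤ le_top = w.appTop := by
      rw [Scheme.Hom.appLE]; simp
    rw [h2]
    rfl

end Blow

end Groth.Agent.Krr.H496.ExcChart
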