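import Groth.Agent.Krr.H496.ProjCrit2
import Groth.Agent.Krr.H496.ConMapSec

/-!
# Coordinates of a family of sections, and of the conormal map

* `CoordFam σ j W a`: over `W`, `σ_j` is a generator and `σ_i = a_i σ_j`.
* `coordOn_iff`: coordinates of `h^*(conormalMap)` in terms of the ideal module on the target.
-/

set_option autoImplicit false
universe u

open CategoryTheory CategoryTheory.Limits AlgebraicGeometry Opposite TopologicalSpace

namespace Groth.Agent.Krr.H496.ExcCoord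

open Groth.Agent.Sga67.Sec Groth.Agent.Sga67.LocBasis Groth.Agent.Krr.H487.LocBasisPull
open Groth.Agent.Krr.H496.GenLocus Groth.Agent.Krr.H496.ProjCrit Groth.Agent.Krr.H496.ConMapSec
open Groth.Agent.Grpsch.ConormalIso

section Fam

variable {T T' : Scheme.{u}} {L : T.Modules} {V : T.Opens} {n : ℕ}

/-- Over `W`, `σ j` is a generator and `σ i = a i • σ j`. -/
structure CoordFam (σ : Fin n → Sec L V) (j : Fin n) (W : T.Opens) (a : Fin n → Γ(T, W)) :
    Prop where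
  le : W ≤ V
  gen : IsGen (res L le (σ j))
  eq : ∀ i, a i • res L le (σ j) = res L le (σ i)

variable {σ : Fin n → Sec L V} {j : Fin n}

theorem CoordFam.le_genLocus {W : T.Opens} {a : Fin n → Γ(T, W)} (h : CoordFam σ j W a) :
    W ≤ genLocus (σ j) := GenLocus.le_genLocus h.le h.gen

theorem exists_coordFam {W : T.Opens} (h : W ≤ genLocus (σ j)) : ∃ a, CoordFam σ j W a := by
  have hle : W ≤ V := h.trans (genLocus_le _)
  have hg : IsGen (res L hle (σ j)) := isGen_of_le hle h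
  choose a ha using fun i => hg.exists_smul (res L hle (σ i))
  exact ⟨a, hle, hg, ha⟩

theorem CoordFam.unique {W : T.Opens} {a a' : Fin n → Γ(T, W)} (h : CoordFam σ j W a)
    (h' : CoordFam σ j W a') : a = a' := by
  funext i
  exact h.gen.smul_injective ((h.eq i).trans (h'.eq i).symm)

theorem CoordFam.self {W : T.Opens} {a : Fin n → Γ(T, W)} (h : CoordFam σ j W a) : a j = 1 :=
  h.gen.smul_injective ((h.eq j).trans (one_smul _ _).symm)

theorem CoordFam.restrict {W W' : T.Opens} {a : Fin n → Γ(T, W)} (h : CoordFam σ j W a)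
    (hW : W' ≤ W) : CoordFam σ j W' (fun i => resO T hW (a i)) where
  le := hW.trans h.le
  gen := by
    have := h.gen.res hW
    rwa [res_res] at this
  eq i := by
    have h1 := congrArg (res L hW) (h.eq i)
    rw [res_smul, res_res, res_res] at h1
    exact h1

theorem CoordFam.pull {W : T.Opens} {a : Fin n → Γ(T, W)} (h : CoordFam σ j W a) (k : T' ⟶ T)
    {W' : T'.Opens} (hW : W' ≤ k ⁻¹ᵁ W) :
    CoordFam (V := k ⁻¹ᵁ V) (fun i => pbS k L (σ i)) j W' (fun i => k.appLE W W' hW (a i)) := by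
  have h1 : CoordFam (V := k ⁻¹ᵁ V) (fun i => pbS k L (σ i)) j (k ⁻¹ᵁ W)
      (fun i => k.app W (a i)) := by
    have hle : k ⁻¹ᵁ W ≤ k ⁻¹ᵁ V := k.preimage_mono h.le
    refine ⟨hle, ?_, fun i => ?_⟩
    · have h2 := isGen_pbS k h.gen
      rw [← res_pbS k L h.le hle] at h2
      exact h2
    · have h2 := congrArg (pbS k L) (h.eq i)
      rw [pbS_smul, ← res_pbS k L h.le hle, ← res_pbS k L h.le hle] at h2
      exact h2
  exact h1.restrict hW

/-- Coordinates of a pulled back family. -/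
theorem coordFam_pbS_iff (hL : IsInv L) (k : T' ⟶ T) {y : Fin n → Γ(T, genLocus (σ j))}
    (hy : CoordFam σ j (genLocus (σ j)) y) {W : T'.Opens} {a : Fin n → Γ(T', W)} :
    CoordFam (V := k ⁻¹ᵁ V) (fun i => pbS k L (σ i)) j W a ↔
      ∃ hW : W ≤ k ⁻¹ᵁ (genLocus (σ j)), ∀ i, a i = k.appLE (genLocus (σ j)) W hW (y i) := by
  constructor
  · intro h
    have hW : W ≤ k ⁻¹ᵁ (genLocus (σ j)) := h.le_genLocus.trans (genLocus_pbS k hL (σ j)).le
    refine ⟨hW, fun i => ?_⟩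
    exact congrFun (h.unique (hy.pull k hW)) i
  · rintro ⟨hW, h⟩
    have : a = fun i => k.appLE (genLocus (σ j)) W hW (y i) := funext h
    rw [this]
    exact hy.pull k hW

end Fam

section Conormal

variable {X Y Z X₁ T : Scheme.{u}} {f : X ⟶ Y} {φ : Z ⟶ Y} {f₁ : X₁ ⟶ Z} {ψ : X₁ ⟶ X}
  (w : f₁ ≫ φ = ψ ≫ f) [QuasiCompact f] [QuasiCompact f₁]

/-- The sections of the ideal module of `f₁` given by sections of the ideal module of `f`. -/
noncomputable def tau {V : Y.Opens} {n : ℕ} (s : Fin n → Sec (ClSub.idealMod f.ker) V) (i : Fin n) :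
    Sec (ClSub.idealMod f₁.ker) (φ ⁻¹ᵁ V) := appS (idMap w) (φ ⁻¹ᵁ V) (pbS φ _ (s i))

/-- The sections of the conormal module of `f` given by sections of the ideal module of `f`. -/
noncomputable def eN (f : X ⟶ Y) {V : Y.Opens} {n : ℕ} (s : Fin n → Sec (ClSub.idealMod f.ker) V)
    (i : Fin n) : Sec (Omega.conormal f) (f ⁻¹ᵁ V) := pbS f (ClSub.idealMod f.ker) (s i)

variable {V : Y.Opens} {n : ℕ} (s : Fin n → Sec (ClSub.idealMod f.ker) V)

theorem preimage_eq (w : f₁ ≫ φ = ψ ≫ f) (V : Y.Opens) :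
    ψ ⁻¹ᵁ (f ⁻¹ᵁ V) = f₁ ⁻¹ᵁ (φ ⁻¹ᵁ V) := by
  rw [← Scheme.Hom.comp_preimage, ← Scheme.Hom.comp_preimage, w]

theorem sg_conormalMap (i : Fin n) : sg (conormalMap w) (eN f s) i =
    res (Omega.conormal f₁) (preimage_eq w V).le (pbS f₁ (ClSub.idealMod f₁.ker) (tau w s i)) := by
  have h := conormalMap_pbS w (s i) (W := ψ ⁻¹ᵁ (f ⁻¹ᵁ V)) le_rfl (preimage_eq w V).le
  rw [res_self] at h
  exact h

/-- The comparison isomorphism. -/
noncomputable def cIso (h : T ⟶ X₁) : (Scheme.Modules.pullback h).obj (Omega.conormal f₁) ≅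
    (Scheme.Modules.pullback (h ≫ f₁)).obj (ClSub.idealMod f₁.ker) :=
  (Scheme.Modules.pullbackComp h f₁).app (ClSub.idealMod f₁.ker)

theorem appS_cIso (h : T ⟶ X₁) {g : T ⟶ X} (hh : h ≫ ψ = g) (i : Fin n) {W : T.Opens}
    (h1 : W ≤ g ⁻¹ᵁ (f ⁻¹ᵁ V)) (h2 : W ≤ (h ≫ f₁) ⁻¹ᵁ (φ ⁻¹ᵁ V)) :
    appS (cIso (f₁ := f₁) h).hom W (res _ h1 (sg (bc h (conormalMap w) hh) (eN f s) i)) =
      res _ h2 (pbS (h ≫ f₁) (ClSub.idealMod f₁.ker) (tau w s i)) := by
  subst hh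
  have e1 : sg (bc h (conormalMap w) rfl) (eN f s) i =
      (show Sec ((Scheme.Modules.pullback h).obj (Omega.conormal f₁)) ((h ≫ ψ) ⁻¹ᵁ (f ⁻¹ᵁ V)) from
        pbS h (Omega.conormal f₁) (sg (conormalMap w) (eN f s) i)) :=
    sg_bc h (conormalMap w) (eN f s) i
  have e2 : pbS h (Omega.conormal f₁) (sg (conormalMap w) (eN f s) i) =
      res _ (h.preimage_mono (preimage_eq w V).le) (pbS h (Omega.conormal f₁)
        (pbS f₁ (ClSub.idealMod f₁.ker) (tau w s i))) := by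
    rw [sg_conormalMap w s i, res_pbS]
  have e3 : appS (cIso (f₁ := f₁) h).hom (h ⁻¹ᵁ (f₁ ⁻¹ᵁ (φ ⁻¹ᵁ V)))
      (pbS h (Omega.conormal f₁) (pbS f₁ (ClSub.idealMod f₁.ker) (tau w s i))) =
      (show Sec ((Scheme.Modules.pullback (h ≫ f₁)).obj (ClSub.idealMod f₁.ker))
        (h ⁻¹ᵁ (f₁ ⁻¹ᵁ (φ ⁻¹ᵁ V))) from
        pbS (h ≫ f₁) (ClSub.idealMod f₁.ker) (tau w s i)) :=
    Groth.Agent.Fdesc.LocGen.pullSec_comp' h f₁ (tau w s i)
  rw [e1]
  have e4 : res ((Scheme.Modules.pullback h).obj (Omega.conormal f₁)) (U := h ⁻¹ᵁ (ψ ⁻¹ᵁ (f ⁻¹ᵁ V)))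
      h1 (pbS h (Omega.conormal f₁) (sg (conormalMap w) (eN f s) i)) =
      res ((Scheme.Modules.pullback h).obj (Omega.conormal f₁))
        (U := h ⁻¹ᵁ (f₁ ⁻¹ᵁ (φ ⁻¹ᵁ V))) h2 (pbS h (Omega.conormal f₁)
        (pbS f₁ (ClSub.idealMod f₁.ker) (tau w s i))) := by
    rw [e2, res_res]
  refine (congrArg (appS (cIso (f₁ := f₁) h).hom W) e4).trans ?_
  refine (appS_res (cIso (f₁ := f₁) h).hom (U := h ⁻¹ᵁ (f₁ ⁻¹ᵁ (φ ⁻¹ᵁ V))) h2 _).trans ?_
  exact congrArg (res _ (U := h ⁻¹ᵁ (f₁ ⁻¹ᵁ (φ ⁻¹ᵁ V))) h2) e3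

/-- Coordinates of `h^*(conormalMap)` are the coordinates of the pulled back sections of the ideal module. -/
theorem coordOn_iff (h : T ⟶ X₁) {g : T ⟶ X} (hh : h ≫ ψ = g) {j : Fin n} {W : T.Opens}
    {a : Fin n → Γ(T, W)} : CoordOn (bc h (conormalMap w) hh) (eN f s) j W a ↔
      CoordFam (V := (h ≫ f₁) ⁻¹ᵁ (φ ⁻¹ᵁ V))
        (fun i => pbS (h ≫ f₁) (ClSub.idealMod f₁.ker) (tau w s i)) j W a := by
  have hopen : g ⁻¹ᵁ (f ⁻¹ᵁ V) = (h ≫ f₁) ⁻¹ᵁ (φ ⁻¹ᵁ V) := by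
    rw [← hh, Scheme.Hom.comp_preimage, Scheme.Hom.comp_preimage, preimage_eq w]
  constructor
  · intro H
    have hle : W ≤ (h ≫ f₁) ⁻¹ᵁ (φ ⁻¹ᵁ V) := H.le.trans hopen.le
    refine ⟨hle, ?_, fun i => ?_⟩
    · rw [← appS_cIso w s h hh j H.le hle, appS_isGen_iff]
      exact H.gen
    · rw [← appS_cIso w s h hh j H.le hle, ← appS_cIso w s h hh i H.le hle, ← map_smul, H.eq]
  · intro H
    have hle : W ≤ g ⁻¹ᵁ (f ⁻¹ᵁ V) := H.le.trans hopen.ge
    refine ⟨hle, ?_, fun i => ?_⟩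
    · rw [← appS_isGen_iff (cIso (f₁ := f₁) h), appS_cIso w s h hh j hle H.le]
      exact H.gen
    · have h3 := H.eq i
      rw [← appS_cIso w s h hh j hle H.le, ← appS_cIso w s h hh i hle H.le, ← map_smul] at h3
      have h4 := congrArg (appS (cIso (f₁ := f₁) h).inv W) h3
      rw [appS_hom_inv, appS_hom_inv] at h4
      exact h4

end Conormal

end Groth.Agent.Krr.H496.ExcCoord
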