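import Groth.Agent.Krr.H487.LocBasisPull
import Groth.Agent.Sga67.LocBasisOps

/-!
# Generators of invertible modules and the open locus where a section generates

For `σ : Sec L V`:
* `IsGen σ`: `σ` is a local basis (with one element) of `L` over `V`;
* `genLocus σ`: the largest open of `V` over which `σ` is a generator;
* `isGen_pbS`, `genLocus_pbS`: behaviour under pull-back;
* `exists_mem_genLocus`: the images of a local basis under an epimorphism onto an invertible module generate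
  locally, i.e. one of them is a generator near each point.
-/

set_option autoImplicit false
universe u

open CategoryTheory CategoryTheory.Limits AlgebraicGeometry Opposite TopologicalSpace

namespace Groth.Agent.Krr.H496.GenLocus

open Groth.Agent.Sga67.Sec Groth.Agent.Sga67.LocBasis Groth.Agent.Sga67.LocBasisStalk
open Groth.Agent.Krr.H487.LocBasisPull

variable {X : Scheme.{u}} {L : X.Modules}

/-- `σ` is a generator (a local basis with one element). -/
def IsGen {U : X.Opens} (σ : Sec L U) : Prop := IsLocBasis (fun _ : Fin 1 => σ)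

theorem isGen_iff {U : X.Opens} {σ : Sec L U} : IsGen σ ↔ ∀ (V : X.Opens) (h : V ≤ U),
    Function.Bijective (fun c : Γ(X, V) => c • res L h σ) := by
  unfold IsGen IsLocBasis
  refine forall₂_congr fun V h => ?_
  have e : (comb (fun _ : Fin 1 => σ) h : (Fin 1 → Γ(X, V)) → Sec L V) =
      (fun c : Γ(X, V) => c • res L h σ) ∘ (Equiv.funUnique (Fin 1) _) := by
    funext a
    simp [comb_apply]
  rw [e]
  exact Function.Bijective.of_comp_iff _ (Equiv.bijective _)

theorem IsGen.res {U V : X.Opens} {σ : Sec L U} (hσ : IsGen σ) (h : V ≤ U) :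
    IsGen (res L h σ) := IsLocBasis.restrict hσ h

theorem IsGen.smul_injective {U : X.Opens} {σ : Sec L U} (hσ : IsGen σ) {c c' : Γ(X, U)}
    (h : c • σ = c' • σ) : c = c' := by
  refine (isGen_iff.1 hσ U le_rfl).1 ?_
  change c • Groth.Agent.Sga67.Sec.res L le_rfl σ = c' • Groth.Agent.Sga67.Sec.res L le_rfl σ
  rw [res_self, h]

theorem IsGen.exists_smul {U : X.Opens} {σ : Sec L U} (hσ : IsGen σ) (τ : Sec L U) :
    ∃ c : Γ(X, U), c • σ = τ := by
  obtain ⟨c, hc⟩ := (isGen_iff.1 hσ U le_rfl).2 τ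
  refine ⟨c, ?_⟩
  rw [← hc]
  change _ = c • Groth.Agent.Sga67.Sec.res L le_rfl σ
  rw [res_self]

/-- The coordinate of a section with respect to a generator. -/
noncomputable def IsGen.coord {U : X.Opens} {σ : Sec L U} (hσ : IsGen σ) (τ : Sec L U) :
    Γ(X, U) := (hσ.exists_smul τ).choose

theorem IsGen.coord_smul {U : X.Opens} {σ : Sec L U} (hσ : IsGen σ) (τ : Sec L U) :
    hσ.coord τ • σ = τ := (hσ.exists_smul τ).choose_spec

theorem IsGen.coord_eq {U : X.Opens} {σ : Sec L U} (hσ : IsGen σ) {τ : Sec L U} {c : Γ(X, U)}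
    (h : c • σ = τ) : hσ.coord τ = c :=
  hσ.smul_injective ((hσ.coord_smul τ).trans h.symm)

theorem isGen_of_locally {U : X.Opens} (σ : Sec L U)
    (H : ∀ x ∈ U, ∃ (W : X.Opens) (h : W ≤ U), x ∈ W ∧ IsGen (res L h σ)) : IsGen σ := by
  refine isLocBasis_of_locally _ fun x V hV hx => ?_
  obtain ⟨W, hW, hxW, hg⟩ := H x (hV hx)
  refine ⟨W ⊓ V, inf_le_left.trans hW, inf_le_right, ⟨hxW, hx⟩, ?_⟩
  have h1 := hg (W ⊓ V) inf_le_left
  have h2 : (comb (fun _ : Fin 1 => σ) (inf_le_left.trans hW : W ⊓ V ≤ U)) =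
      comb (fun _ : Fin 1 => Groth.Agent.Sga67.Sec.res L hW σ) (inf_le_left : W ⊓ V ≤ W) := by
    ext a
    simp [comb_apply]
  rw [h2]
  exact h1

theorem isGen_smul {U : X.Opens} {σ : Sec L U} (hσ : IsGen σ) {c : Γ(X, U)} (hc : IsUnit c) :
    IsGen (c • σ) := by
  rw [isGen_iff] at hσ ⊢
  intro V h
  have hu : IsUnit (resO X h c) := hc.map (resO X h)
  have e : (fun d : Γ(X, V) => d • Groth.Agent.Sga67.Sec.res L h (c • σ)) =
      (fun d : Γ(X, V) => d • Groth.Agent.Sga67.Sec.res L h σ) ∘ (fun d => d * resO X h c) := by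
    funext d
    simp only [Function.comp_apply, res_smul, mul_smul]
  rw [e]
  refine (hσ V h).comp ?_
  exact hu.unit.mulRight_bijective

theorem isUnit_of_isGen_smul {U : X.Opens} {σ : Sec L U} (hσ : IsGen σ) {c : Γ(X, U)}
    (hc : IsGen (c • σ)) : IsUnit c := by
  obtain ⟨d, hd⟩ := hc.exists_smul σ
  rw [← mul_smul] at hd
  have h1 : d * c = 1 := hσ.smul_injective (hd.trans (one_smul _ _).symm)
  exact IsUnit.of_mul_eq_one_right _ h1

/-- The largest open over which `σ` is a generator. -/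
def genLocus {V : X.Opens} (σ : Sec L V) : X.Opens :=
  sSup {W : X.Opens | ∃ h : W ≤ V, IsGen (res L h σ)}

theorem mem_genLocus {V : X.Opens} {σ : Sec L V} {x : X} :
    x ∈ genLocus σ ↔ ∃ (W : X.Opens) (h : W ≤ V), x ∈ W ∧ IsGen (res L h σ) := by
  unfold genLocus
  rw [Opens.mem_sSup]
  constructor
  · rintro ⟨W, ⟨h, hg⟩, hx⟩
    exact ⟨W, h, hx, hg⟩
  · rintro ⟨W, h, hx, hg⟩
    exact ⟨W, ⟨h, hg⟩, hx⟩

theorem genLocus_le {V : X.Opens} (σ : Sec L V) : genLocus σ ≤ V := by
  intro x hx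
  obtain ⟨W, h, hxW, -⟩ := mem_genLocus.1 hx
  exact h hxW

theorem le_genLocus {V W : X.Opens} {σ : Sec L V} (h : W ≤ V) (hg : IsGen (res L h σ)) :
    W ≤ genLocus σ := fun _ hx => mem_genLocus.2 ⟨W, h, hx, hg⟩

theorem isGen_genLocus {V : X.Opens} (σ : Sec L V) : IsGen (res L (genLocus_le σ) σ) := by
  refine isGen_of_locally _ fun x hx => ?_
  obtain ⟨W, h, hxW, hg⟩ := mem_genLocus.1 hx
  refine ⟨W, le_genLocus h hg, hxW, ?_⟩
  rw [res_res]
  exact hg

theorem isGen_of_le {V W : X.Opens} {σ : Sec L V} (h : W ≤ V) (hW : W ≤ genLocus σ) :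
    IsGen (res L h σ) := by
  have := (isGen_genLocus σ).res hW
  rwa [res_res] at this

theorem genLocus_res {V W : X.Opens} {σ : Sec L V} (h : W ≤ V) :
    genLocus (res L h σ) = W ⊓ genLocus σ := by
  apply le_antisymm
  · intro x hx
    obtain ⟨W', h', hxW, hg⟩ := mem_genLocus.1 hx
    rw [res_res] at hg
    exact ⟨h' hxW, mem_genLocus.2 ⟨W', _, hxW, hg⟩⟩
  · refine le_genLocus inf_le_left ?_
    rw [res_res]
    exact isGen_of_le _ inf_le_right

theorem appS_isGen_iff {L' : X.Modules} (e : L ≅ L') {V : X.Opens} (σ : Sec L V) :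
    IsGen (appS e.hom V σ) ↔ IsGen σ := by
  constructor
  · intro h
    have h1 := IsLocBasis.of_iso h e.symm
    have h2 : (fun _ : Fin 1 => appS e.symm.hom V (appS e.hom V σ)) = fun _ => σ := by
      funext _
      exact appS_hom_inv e V σ
    rw [h2] at h1
    exact h1
  · intro h
    exact IsLocBasis.of_iso h e

theorem genLocus_appS {L' : X.Modules} (e : L ≅ L') {V : X.Opens} (σ : Sec L V) :
    genLocus (appS e.hom V σ) = genLocus σ := by
  ext x
  rw [SetLike.mem_coe, SetLike.mem_coe, mem_genLocus, mem_genLocus]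
  refine exists_congr fun W => exists_congr fun h => and_congr_right fun _ => ?_
  rw [← appS_res, appS_isGen_iff]

/-- Invertible modules, in terms of generators. -/
def IsInv (L : X.Modules) : Prop := ∀ x : X, ∃ (U : X.Opens) (σ : Sec L U), x ∈ U ∧ IsGen σ

theorem isInv_iff {L : X.Modules} : IsInv L ↔ FlatMod.IsFinLocFreeOfRank 1 L := by
  unfold IsInv FlatMod.IsFinLocFreeOfRank
  refine forall_congr' fun x => exists_congr fun U => ?_
  rw [nonempty_restrict_iso_iff]
  constructor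
  · rintro ⟨σ, hx, hσ⟩
    exact ⟨hx, _, hσ⟩
  · rintro ⟨hx, b, hb⟩
    refine ⟨b 0, hx, ?_⟩
    have : b = fun _ => b 0 := by
      funext i
      rw [Subsingleton.elim i 0]
    rw [this] at hb
    exact hb

theorem res_comb_basicOpen_unit {U : X.Opens} (c : Γ(X, U)) :
    IsUnit (resO X (X.basicOpen_le c) c) :=
  RingedSpace.isUnit_res_basicOpen _ c

/-- If `σ = c • b` on `W` with `b` a generator, then `σ` generates on the locus where `c` is invertible. -/
theorem basicOpen_le_genLocus {V W : X.Opens} {σ : Sec L V} (h : W ≤ V) {b : Sec L W} (hb : IsGen b)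
    {c : Γ(X, W)} (hc : c • b = res L h σ) : X.basicOpen c ≤ genLocus σ := by
  refine le_genLocus ((X.basicOpen_le c).trans h) ?_
  rw [← res_res L h (X.basicOpen_le c), ← hc, res_smul]
  exact isGen_smul (hb.res _) (res_comb_basicOpen_unit c)

theorem mem_basicOpen_of_mem_genLocus {V W : X.Opens} {σ : Sec L V} (h : W ≤ V) {b : Sec L W}
    (hb : IsGen b) {c : Γ(X, W)} (hc : c • b = res L h σ) {x : X} (hx : x ∈ W)
    (hx' : x ∈ genLocus σ) : x ∈ X.basicOpen c := by
  have h1 : W ⊓ genLocus σ ≤ W := inf_le_left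
  have h2 : IsUnit (resO X h1 c) := by
    refine isUnit_of_isGen_smul (hb.res h1) ?_
    rw [← res_smul, hc, res_res]
    exact isGen_of_le _ inf_le_right
  rw [Scheme.mem_basicOpen _ _ _ hx]
  have h3 : gerO x (show x ∈ W ⊓ genLocus σ from ⟨hx, hx'⟩) (resO X h1 c) = gerO x hx c := gerO_res h1 x _ c
  have h4 := h2.map (X.presheaf.germ (W ⊓ genLocus σ) x ⟨hx, hx'⟩).hom
  change IsUnit (gerO x (show x ∈ W ⊓ genLocus σ from ⟨hx, hx'⟩) (resO X h1 c)) at h4
  rw [h3] at h4
  exact h4

section Pull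

variable {Y : Scheme.{u}} (f : Y ⟶ X)

theorem isGen_pbS {V : X.Opens} {σ : Sec L V} (hσ : IsGen σ) :
    IsGen (L := (Scheme.Modules.pullback f).obj L) (U := f ⁻¹ᵁ V) (pbS f L σ) :=
  isLocBasis_pbS f hσ

/-- The generator locus of a pulled back section. -/
theorem genLocus_pbS (hL : IsInv L) {V : X.Opens} (σ : Sec L V) :
    genLocus (L := (Scheme.Modules.pullback f).obj L) (V := f ⁻¹ᵁ V) (pbS f L σ) =
      f ⁻¹ᵁ (genLocus σ) := by
  apply le_antisymm
  · intro y hy
    have hyV : f y ∈ V := genLocus_le (L := (Scheme.Modules.pullback f).obj L) (V := f ⁻¹ᵁ V)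
      (pbS f L σ) hy
    obtain ⟨U, b, hxU, hb⟩ := hL (f y)
    have hWU : U ⊓ V ≤ U := inf_le_left
    have hWV : U ⊓ V ≤ V := inf_le_right
    obtain ⟨c, hc⟩ := (hb.res hWU).exists_smul (res L hWV σ)
    have h1 : (f.app (U ⊓ V) c : Γ(Y, f ⁻¹ᵁ (U ⊓ V))) • pbS f L (res L hWU b) =
        res ((Scheme.Modules.pullback f).obj L) (f.preimage_mono hWV) (pbS f L σ) := by
      rw [res_pbS f L hWV, ← hc, pbS_smul]
    have h2 := mem_basicOpen_of_mem_genLocus (L := (Scheme.Modules.pullback f).obj L)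
      (f.preimage_mono hWV) (isGen_pbS f (hb.res hWU)) h1 (show y ∈ f ⁻¹ᵁ (U ⊓ V) from ⟨hxU, hyV⟩) hy
    rw [← Scheme.preimage_basicOpen] at h2
    exact basicOpen_le_genLocus hWV (hb.res hWU) hc h2
  · refine le_genLocus (f.preimage_mono (genLocus_le σ)) ?_
    rw [res_pbS f L (genLocus_le σ)]
    exact isGen_pbS f (isGen_genLocus σ)

theorem isInv_pullback (hL : IsInv L) : IsInv ((Scheme.Modules.pullback f).obj L) := by
  intro y
  obtain ⟨U, b, hU, hb⟩ := hL (f y)
  exact ⟨f ⁻¹ᵁ U, pbS f L b, hU, isGen_pbS f hb⟩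

end Pull

/-- Around each point one of the images of a local basis under an epimorphism onto an invertible module is a
generator. -/
theorem exists_mem_genLocus (hL : IsInv L) {E : X.Modules} (s : E ⟶ L) [Epi s] {U : X.Opens}
    {κ : Type*} [Fintype κ] {e : κ → Sec E U} (he : IsLocBasis e) {x : X} (hx : x ∈ U) :
    ∃ k, x ∈ genLocus (appS s U (e k)) := by
  obtain ⟨U', b, hxU', hb⟩ := hL x
  have hWU : U ⊓ U' ≤ U := inf_le_left
  have hWU' : U ⊓ U' ≤ U' := inf_le_right
  obtain ⟨W, hW, hxW, m, hm⟩ := locally_surjective_of_epi s (res L hWU' b) x ⟨hx, hxU'⟩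
  have hWU2 : W ≤ U := hW.trans hWU
  have hbW : IsGen (res L hW (res L hWU' b)) := (hb.res hWU').res hW
  choose c hc using fun k => hbW.exists_smul (res L hWU2 (appS s U (e k)))
  obtain ⟨a, ha⟩ := (he W hWU2).2 m
  have h0 : res L hW (res L hWU' b) = ∑ k, a k • res L hWU2 (appS s U (e k)) := by
    rw [← hm, ← ha, appS_comb, comb_apply]
  have h1 : (∑ k, a k * c k) • res L hW (res L hWU' b) =
      (1 : Γ(X, W)) • res L hW (res L hWU' b) := by
    rw [one_smul, Finset.sum_smul]
    refine Eq.trans (Finset.sum_congr rfl fun k _ => ?_) h0.symm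
    rw [mul_smul, hc]
  have h2 := hbW.smul_injective h1
  have h3 : ∑ k, gerO x hxW (a k) * gerO x hxW (c k) = 1 := by
    have h4 := congrArg (X.presheaf.germ W x hxW).hom h2
    rw [map_sum, map_one] at h4
    rw [← h4]
    refine Finset.sum_congr rfl fun k _ => ?_
    exact (map_mul (X.presheaf.germ W x hxW).hom (a k) (c k)).symm
  by_contra hcon
  push Not at hcon
  have h5 : ∀ k, gerO x hxW (c k) ∈ IsLocalRing.maximalIdeal (X.presheaf.stalk x) := by
    intro k
    rw [IsLocalRing.mem_maximalIdeal, mem_nonunits_iff]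
    intro hu
    refine hcon k (basicOpen_le_genLocus hWU2 hbW (hc k) ?_)
    rw [Scheme.mem_basicOpen _ _ _ hxW]
    exact hu
  have h6 : (1 : X.presheaf.stalk x) ∈ IsLocalRing.maximalIdeal (X.presheaf.stalk x) := by
    rw [← h3]
    exact Ideal.sum_mem _ fun k _ => Ideal.mul_mem_left _ _ (h5 k)
  exact (Ideal.ne_top_iff_one _).1 (IsLocalRing.maximalIdeal.isMaximal _).ne_top h6

end Groth.Agent.Krr.H496.GenLocus
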