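import Groth.Agent.Krr.H496.GenLocus
import Groth.Agent.Fdesc.LocGenPullback
import Groth.Prelude.Def_KRR

/-!
# A criterion for projective bundles through charts

`isProjBundle_of_chartCond`: `(π : P ⟶ X, O1, q : π^* E ⟶ O1)` is the projective bundle of `E` as soon as `O1` is
invertible, `q` is an epimorphism and, locally on `X`, `E` has a basis `e` such that for each `j` the morphisms
`T ⟶ P` over `X` which land in the locus where `q(e_j)` generates `O1` are determined by, and exist for arbitrary,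
coordinates `a_i` (`q(e_i) = a_i q(e_j)`), `a_j = 1`.
-/

set_option autoImplicit false
universe u

open CategoryTheory CategoryTheory.Limits AlgebraicGeometry Opposite TopologicalSpace

namespace Groth.Agent.Krr.H496.ProjCrit

open Groth.Agent.Sga67.Sec Groth.Agent.Sga67.LocBasis Groth.Agent.Sga67.LocBasisStalk
open Groth.Agent.Krr.H487.LocBasisPull Groth.Agent.Krr.H496.GenLocus

variable {X T T' P : Scheme.{u}} {E : X.Modules}

/-- Base change of a morphism `s : g^* E ⟶ L` along `k : T' ⟶ T`. -/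
noncomputable def bc (k : T' ⟶ T) {g : T ⟶ X} {L : T.Modules}
    (s : (Scheme.Modules.pullback g).obj E ⟶ L) {g' : T' ⟶ X} (hk : k ≫ g = g') :
    (Scheme.Modules.pullback g').obj E ⟶ (Scheme.Modules.pullback k).obj L :=
  (Scheme.Modules.pullbackCongr hk).inv.app E ≫ (Scheme.Modules.pullbackComp k g).inv.app E ≫
    (Scheme.Modules.pullback k).map s

instance epi_bc (k : T' ⟶ T) {g : T ⟶ X} {L : T.Modules}
    (s : (Scheme.Modules.pullback g).obj E ⟶ L) [Epi s] {g' : T' ⟶ X} (hk : k ≫ g = g') :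
    Epi (bc k s hk) := by
  unfold bc
  have h1 : Epi ((Scheme.Modules.pullback k).map s) := inferInstance
  have h2 : Epi ((Scheme.Modules.pullbackComp k g).inv.app E ≫ (Scheme.Modules.pullback k).map s) :=
    epi_comp _ _
  exact epi_comp _ _

theorem appS_bc (k : T' ⟶ T) {g : T ⟶ X} {L : T.Modules}
    (s : (Scheme.Modules.pullback g).obj E ⟶ L) {U : X.Opens} (m : Sec E U) :
    appS (bc k s rfl) ((k ≫ g) ⁻¹ᵁ U) (pbS (k ≫ g) E m) =
      (show Sec ((Scheme.Modules.pullback k).obj L) ((k ≫ g) ⁻¹ᵁ U) from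
        pbS k L (appS s (g ⁻¹ᵁ U) (pbS g E m))) := by
  have h1 : (Scheme.Modules.pullbackCongr (rfl : k ≫ g = k ≫ g)).inv.app E = 𝟙 _ := rfl
  have h2 : bc k s rfl = (Scheme.Modules.pullbackComp k g).inv.app E ≫
      (Scheme.Modules.pullback k).map s := by
    unfold bc
    rw [h1]
    exact Category.id_comp _
  rw [h2, appS_comp]
  have h3 : appS ((Scheme.Modules.pullbackComp k g).inv.app E) ((k ≫ g) ⁻¹ᵁ U) (pbS (k ≫ g) E m) =
      (show Sec ((Scheme.Modules.pullback k).obj ((Scheme.Modules.pullback g).obj E))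
        ((k ≫ g) ⁻¹ᵁ U) from pbS k _ (pbS g E m)) :=
    Groth.Agent.Fdesc.LocGen.pullSec_comp k g m
  rw [h3]
  exact appS_pbS k s (pbS g E m)

/-- The sections of `L` given by sections of `E`. -/
noncomputable def sg {g : T ⟶ X} {L : T.Modules} (s : (Scheme.Modules.pullback g).obj E ⟶ L)
    {U : X.Opens} {n : ℕ} (e : Fin n → Sec E U) (i : Fin n) : Sec L (g ⁻¹ᵁ U) :=
  appS s (g ⁻¹ᵁ U) (pbS g E (e i))

theorem sg_bc (k : T' ⟶ T) {g : T ⟶ X} {L : T.Modules}
    (s : (Scheme.Modules.pullback g).obj E ⟶ L) {U : X.Opens} {n : ℕ} (e : Fin n → Sec E U)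
    (i : Fin n) : sg (bc k s rfl) e i =
      (show Sec ((Scheme.Modules.pullback k).obj L) ((k ≫ g) ⁻¹ᵁ U) from pbS k L (sg s e i)) :=
  appS_bc k s (e i)

/-- `a` are the coordinates of `s` on `W` in the basis `e`, with respect to the `j`-th generator. -/
structure CoordOn {g : T ⟶ X} {L : T.Modules} (s : (Scheme.Modules.pullback g).obj E ⟶ L)
    {U : X.Opens} {n : ℕ} (e : Fin n → Sec E U) (j : Fin n) (W : T.Opens)
    (a : Fin n → Γ(T, W)) : Prop where
  le : W ≤ g ⁻¹ᵁ U
  gen : IsGen (res L le (sg s e j))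
  eq : ∀ i, a i • res L le (sg s e j) = res L le (sg s e i)

section Basic

variable {g : T ⟶ X} {L : T.Modules} {s : (Scheme.Modules.pullback g).obj E ⟶ L}
  {U : X.Opens} {n : ℕ} {e : Fin n → Sec E U} {j : Fin n}

theorem CoordOn.le_genLocus {W : T.Opens} {a : Fin n → Γ(T, W)} (h : CoordOn s e j W a) :
    W ≤ genLocus (sg s e j) := GenLocus.le_genLocus h.le h.gen

theorem exists_coordOn {W : T.Opens} (h : W ≤ genLocus (sg s e j)) : ∃ a, CoordOn s e j W a := by
  have hle : W ≤ g ⁻¹ᵁ U := h.trans (genLocus_le _)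
  have hg : IsGen (res L hle (sg s e j)) := isGen_of_le hle h
  choose a ha using fun i => hg.exists_smul (res L hle (sg s e i))
  exact ⟨a, hle, hg, ha⟩

theorem CoordOn.unique {W : T.Opens} {a a' : Fin n → Γ(T, W)} (h : CoordOn s e j W a)
    (h' : CoordOn s e j W a') : a = a' := by
  funext i
  exact h.gen.smul_injective ((h.eq i).trans (h'.eq i).symm)

theorem CoordOn.self {W : T.Opens} {a : Fin n → Γ(T, W)} (h : CoordOn s e j W a) : a j = 1 :=
  h.gen.smul_injective ((h.eq j).trans (one_smul _ _).symm)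

theorem CoordOn.restrict {W W' : T.Opens} {a : Fin n → Γ(T, W)} (h : CoordOn s e j W a)
    (hW : W' ≤ W) : CoordOn s e j W' (fun i => resO T hW (a i)) where
  le := hW.trans h.le
  gen := by
    have := h.gen.res hW
    rwa [res_res] at this
  eq i := by
    have h1 := congrArg (res L hW) (h.eq i)
    rw [res_smul, res_res, res_res] at h1
    exact h1

/-- Transport of coordinates. -/
theorem CoordOn.transport {L' : T.Modules} {s' : (Scheme.Modules.pullback g).obj E ⟶ L'}
    {W : T.Opens} {a : Fin n → Γ(T, W)} (h : CoordOn s e j W a) (v : L ≅ L')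
    (hv : ∀ i, appS v.hom (g ⁻¹ᵁ U) (sg s e i) = sg s' e i) : CoordOn s' e j W a where
  le := h.le
  gen := by
    rw [← hv, ← appS_res, appS_isGen_iff]
    exact h.gen
  eq i := by
    rw [← hv, ← hv, ← appS_res, ← appS_res, ← map_smul, h.eq]

/-- Transport of coordinates along an isomorphism of quotients. -/
theorem CoordOn.iso {L' : T.Modules} {s' : (Scheme.Modules.pullback g).obj E ⟶ L'}
    {W : T.Opens} {a : Fin n → Γ(T, W)} (h : CoordOn s e j W a) (v : L ≅ L')
    (hv : s ≫ v.hom = s') : CoordOn s' e j W a :=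
  h.transport v fun i => by
    rw [← hv]
    rfl

/-- Pull-back of coordinates. -/
theorem CoordOn.pull {W : T.Opens} {a : Fin n → Γ(T, W)} (h : CoordOn s e j W a) (k : T' ⟶ T)
    {g' : T' ⟶ X} (hk : k ≫ g = g') {W' : T'.Opens} (hW : W' ≤ k ⁻¹ᵁ W) :
    CoordOn (bc k s hk) e j W' (fun i => k.appLE W W' hW (a i)) := by
  subst hk
  have h1 : CoordOn (bc k s rfl) e j (k ⁻¹ᵁ W) (fun i => k.app W (a i)) := by
    have hle : k ⁻¹ᵁ W ≤ (k ≫ g) ⁻¹ᵁ U := k.preimage_mono h.le
    refine ⟨hle, ?_, fun i => ?_⟩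
    · rw [sg_bc]
      have h2 := isGen_pbS k h.gen
      rw [← res_pbS k L h.le hle] at h2
      exact h2
    · rw [sg_bc, sg_bc]
      have h2 := congrArg (pbS k L) (h.eq i)
      rw [pbS_smul, ← res_pbS k L h.le hle, ← res_pbS k L h.le hle] at h2
      exact h2
  exact h1.restrict hW

/-- Composition of base changes. -/
theorem CoordOn.comp {T'' : Scheme.{u}} {k : T' ⟶ T} {g' : T' ⟶ X} {hk : k ≫ g = g'}
    {k' : T'' ⟶ T'} {g'' : T'' ⟶ X} {hk' : k' ≫ g' = g''} {W : T''.Opens}
    {a : Fin n → Γ(T'', W)} (h : CoordOn (bc k' (bc k s hk) hk') e j W a)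
    {k'' : T'' ⟶ T} (hk'' : k' ≫ k = k'') (hk3 : k'' ≫ g = g'') :
    CoordOn (bc k'' s hk3) e j W a := by
  subst hk''
  subst hk
  subst hk'
  refine h.transport ((Scheme.Modules.pullbackComp k' k).app L) fun i => ?_
  have h1 : sg (bc k' (bc k s rfl) rfl) e i =
      (show Sec ((Scheme.Modules.pullback k').obj ((Scheme.Modules.pullback k).obj L))
        ((k' ≫ k ≫ g) ⁻¹ᵁ U) from pbS k' _ (pbS k L (sg s e i))) := by
    refine (sg_bc k' (bc k s rfl) e i).trans ?_
    have h3 := sg_bc k s e i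
    exact congrArg (pbS k' ((Scheme.Modules.pullback k).obj L)) h3
  have h2 : sg (bc (k' ≫ k) s hk3) e i =
      (show Sec ((Scheme.Modules.pullback (k' ≫ k)).obj L) ((k' ≫ k ≫ g) ⁻¹ᵁ U) from
        pbS (k' ≫ k) L (sg s e i)) := sg_bc (k' ≫ k) s e i
  rw [h1, h2]
  exact Groth.Agent.Fdesc.LocGen.pullSec_comp' k' k (sg s e i)

/-- Converse of the composition of base changes. -/
theorem CoordOn.uncomp {T'' : Scheme.{u}} {k : T' ⟶ T} {g' : T' ⟶ X} {hk : k ≫ g = g'}
    {k' : T'' ⟶ T'} {g'' : T'' ⟶ X} {hk' : k' ≫ g' = g''} {W : T''.Opens}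
    {a : Fin n → Γ(T'', W)} {k'' : T'' ⟶ T} {hk'' : k' ≫ k = k''} {hk3 : k'' ≫ g = g''}
    (h : CoordOn (bc k'' s hk3) e j W a) :
    CoordOn (bc k' (bc k s hk) hk') e j W a := by
  subst hk''
  subst hk
  subst hk'
  refine h.transport ((Scheme.Modules.pullbackComp k' k).app L).symm fun i => ?_
  have h1 : sg (bc k' (bc k s rfl) rfl) e i =
      (show Sec ((Scheme.Modules.pullback k').obj ((Scheme.Modules.pullback k).obj L))
        ((k' ≫ k ≫ g) ⁻¹ᵁ U) from pbS k' _ (pbS k L (sg s e i))) := by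
    refine (sg_bc k' (bc k s rfl) e i).trans ?_
    have h3 := sg_bc k s e i
    exact congrArg (pbS k' ((Scheme.Modules.pullback k).obj L)) h3
  have h2 : sg (bc (k' ≫ k) s hk3) e i =
      (show Sec ((Scheme.Modules.pullback (k' ≫ k)).obj L) ((k' ≫ k ≫ g) ⁻¹ᵁ U) from
        pbS (k' ≫ k) L (sg s e i)) := sg_bc (k' ≫ k) s e i
  rw [h1, h2]
  exact Groth.Agent.Fdesc.LocGen.pullSec_comp k' k (sg s e i)

end Basic

/-! ### Factoring a quotient through another one -/

section Factor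

variable {E' L L' : T.Modules}

/-- Two quotients with the same coordinates near each point are isomorphic. -/
theorem exists_iso_of_coords (s : E' ⟶ L) (s' : E' ⟶ L') [Epi s] [Epi s']
    (H : ∀ t : T, ∃ (W : T.Opens) (n : ℕ) (b : Fin n → Sec E' W) (j : Fin n) (a : Fin n → Γ(T, W)),
      t ∈ W ∧ IsLocBasis b ∧ IsGen (appS s W (b j)) ∧ IsGen (appS s' W (b j)) ∧
      (∀ i, a i • appS s W (b j) = appS s W (b i)) ∧
      (∀ i, a i • appS s' W (b j) = appS s' W (b i))) :
    ∃ v : L ≅ L', s ≫ v.hom = s' := by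
  have hzero : kernel.ι s ≫ s' = 0 := by
    refine Groth.Agent.Sga67.Sec.hom_ext fun V m => ?_
    rw [appS_comp, appS_zero]
    apply eq_of_locally
    intro x hx
    obtain ⟨W, n, b, j, a, hxW, hb, hg, hg', ha, ha'⟩ := H x
    have h1 : V ⊓ W ≤ V := inf_le_left
    have h2 : V ⊓ W ≤ W := inf_le_right
    refine ⟨V ⊓ W, h1, ⟨hx, hxW⟩, ?_⟩
    rw [map_zero, ← appS_res, ← appS_res]
    obtain ⟨c, hc⟩ := (hb (V ⊓ W) h2).2 (appS (kernel.ι s) (V ⊓ W) (res (kernel s) h1 m))
    have key : ∀ {N : T.Modules} (r : E' ⟶ N), (∀ i, a i • appS r W (b j) = appS r W (b i)) →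
        appS r (V ⊓ W) (comb b h2 c) = (∑ i, c i * resO T h2 (a i)) • res N h2 (appS r W (b j)) := by
      intro N r hr
      rw [appS_comb, comb_apply, Finset.sum_smul]
      refine Finset.sum_congr rfl fun i _ => ?_
      rw [← hr, res_smul, mul_smul]
    have h3 : appS s (V ⊓ W) (comb b h2 c) = 0 := by
      rw [hc, ← appS_comp, kernel.condition, appS_zero]
    rw [key s ha] at h3
    have h4 : (∑ i, c i * resO T h2 (a i)) = 0 := by
      apply (hg.res h2).smul_injective
      rw [h3, zero_smul]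
    rw [← hc, key s' ha', h4, zero_smul]
  let v : L ⟶ L' := Abelian.epiDesc s s' hzero
  have hv : s ≫ v = s' := Abelian.comp_epiDesc s s' hzero
  have : IsIso v := by
    refine isIso_of_bijective v fun x V hx => ?_
    obtain ⟨W, n, b, j, a, hxW, hb, hg, hg', ha, ha'⟩ := H x
    have h1 : V ⊓ W ≤ V := inf_le_left
    have h2 : V ⊓ W ≤ W := inf_le_right
    refine ⟨V ⊓ W, h1, ⟨hx, hxW⟩, ?_⟩
    have e1 := isGen_iff.1 hg (V ⊓ W) h2
    have e2 := isGen_iff.1 hg' (V ⊓ W) h2
    have e3 : (fun c : Γ(T, V ⊓ W) => c • res L' h2 (appS s' W (b j))) =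
        (appS v (V ⊓ W)) ∘ (fun c : Γ(T, V ⊓ W) => c • res L h2 (appS s W (b j))) := by
      funext c
      simp only [Function.comp_apply, map_smul]
      rw [appS_res, ← appS_comp, hv]
    rw [e3] at e2
    exact (Function.Bijective.of_comp_iff _ e1).1 e2
  exact ⟨asIso v, hv⟩

end Factor

end Groth.Agent.Krr.H496.ProjCrit
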