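import Groth.Agent.Krr.H496.ProjCrit

/-!
# A criterion for projective bundles through charts: the theorem
-/

set_option autoImplicit false
universe u

open CategoryTheory CategoryTheory.Limits AlgebraicGeometry Opposite TopologicalSpace

namespace Groth.Agent.Krr.H496.ProjCrit

open Groth.Agent.Sga67.Sec Groth.Agent.Sga67.LocBasis Groth.Agent.Sga67.LocBasisStalk
open Groth.Agent.Krr.H487.LocBasisPull Groth.Agent.Krr.H496.GenLocus

variable {X T P : Scheme.{u}} {E : X.Modules}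

/-- The chart condition: morphisms to `P` over `X` landing in the locus where `q(e_j)` generates `O1` are the same
as tuples of functions `a_i` with `a_j = 1`. -/
structure ChartCond (π : P ⟶ X) {O1 : P.Modules} (q : (Scheme.Modules.pullback π).obj E ⟶ O1)
    {U : X.Opens} {n : ℕ} (e : Fin n → Sec E U) (j : Fin n) : Prop where
  uniq : ∀ (T : Scheme.{u}) (g : T ⟶ X) (h h' : T ⟶ P) (hh : h ≫ π = g) (hh' : h' ≫ π = g)
    (a : Fin n → Γ(T, ⊤)), CoordOn (bc h q hh) e j ⊤ a → CoordOn (bc h' q hh') e j ⊤ a → h = h'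
  exist : ∀ (T : Scheme.{u}) (g : T ⟶ X) (_ : ⊤ ≤ g ⁻¹ᵁ U) (a : Fin n → Γ(T, ⊤)), a j = 1 →
    ∃ (h : T ⟶ P) (hh : h ≫ π = g), CoordOn (bc h q hh) e j ⊤ a

theorem top_le_ι (W : T.Opens) : (⊤ : (W : Scheme.{u}).Opens) ≤ W.ι ⁻¹ᵁ W :=
  W.ι_preimage_self.ge

theorem appLE_ι_injective (W : T.Opens) :
    Function.Injective (W.ι.appLE W ⊤ (top_le_ι W)) := by
  have h5 : IsIso (W.ι.appLE W ⊤ W.ι_preimage_self.ge) := inferInstance
  exact ((ConcreteCategory.isIso_iff_bijective _).mp h5).1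

/-- Coordinates over an open can be checked after restriction to that open. -/
theorem coordOn_of_ι {g : T ⟶ X} {L : T.Modules} (hL : IsInv L)
    {s : (Scheme.Modules.pullback g).obj E ⟶ L} {U : X.Opens} {n : ℕ} {e : Fin n → Sec E U}
    {j : Fin n} {W : T.Opens} {a : Fin n → Γ(T, W)}
    (h : CoordOn (bc W.ι s rfl) e j ⊤ (fun i => W.ι.appLE W ⊤ (top_le_ι W) (a i))) :
    CoordOn s e j W a := by
  have h1 := h.le_genLocus
  have h2 : sg (bc W.ι s rfl) e j =
      (show Sec ((Scheme.Modules.pullback W.ι).obj L) ((W.ι ≫ g) ⁻¹ᵁ U) from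
        pbS W.ι L (sg s e j)) := sg_bc W.ι s e j
  rw [h2] at h1
  have h3 : (⊤ : (W : Scheme.{u}).Opens) ≤ W.ι ⁻¹ᵁ (genLocus (sg s e j)) :=
    h1.trans (genLocus_pbS W.ι hL (sg s e j)).le
  have h4 : W ≤ genLocus (sg s e j) := by
    intro x hx
    exact h3 (show (⟨x, hx⟩ : (W : Scheme.{u})) ∈ (⊤ : (W : Scheme.{u}).Opens) from trivial)
  obtain ⟨a', ha'⟩ := exists_coordOn h4
  have h5 := ha'.pull W.ι rfl (top_le_ι W)
  have h6 := h.unique h5
  have h7 : a = a' := by
    funext i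
    exact appLE_ι_injective W (congrFun h6 i)
  rw [h7]
  exact ha'

/-- Two quotients with the same coordinates near each point are isomorphic. -/
theorem exists_iso_of_coordOn {g : T ⟶ X} {L L' : T.Modules}
    (s : (Scheme.Modules.pullback g).obj E ⟶ L) (s' : (Scheme.Modules.pullback g).obj E ⟶ L')
    [Epi s] [Epi s']
    (H : ∀ t : T, ∃ (U : X.Opens) (n : ℕ) (e : Fin n → Sec E U) (j : Fin n) (W : T.Opens)
      (a : Fin n → Γ(T, W)), IsLocBasis e ∧ t ∈ W ∧ CoordOn s e j W a ∧ CoordOn s' e j W a) :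
    ∃ v : L ≅ L', s ≫ v.hom = s' := by
  refine exists_iso_of_coords s s' fun t => ?_
  obtain ⟨U, n, e, j, W, a, he, htW, h, h'⟩ := H t
  refine ⟨W, n, fun i => res _ h.le (pbS g E (e i)), j, a, htW,
    (isLocBasis_pbS g he).restrict h.le, ?_, ?_, fun i => ?_, fun i => ?_⟩
  · rw [appS_res]
    exact h.gen
  · rw [appS_res]
    exact h'.gen
  · rw [appS_res, appS_res]
    exact h.eq i
  · rw [appS_res, appS_res]
    exact h'.eq i

section Main

variable (π : P ⟶ X) {O1 : P.Modules} (q : (Scheme.Modules.pullback π).obj E ⟶ O1)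

/-- Uniqueness of the classifying morphism. -/
theorem good_unique
    (H : ∀ x : X, ∃ (U : X.Opens) (n : ℕ) (e : Fin n → Sec E U), x ∈ U ∧ IsLocBasis e ∧
      ∀ j, ChartCond π q e j)
    {g : T ⟶ X} {L : T.Modules} (hL : IsInv L) (s : (Scheme.Modules.pullback g).obj E ⟶ L) [Epi s]
    {h h' : T ⟶ P} (hh : h ≫ π = g) (hh' : h' ≫ π = g)
    (v : (Scheme.Modules.pullback h).obj O1 ≅ L) (hv : bc h q hh ≫ v.hom = s)
    (v' : (Scheme.Modules.pullback h').obj O1 ≅ L) (hv' : bc h' q hh' ≫ v'.hom = s) : h = h' := by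
  refine Scheme.hom_ext_of_forall _ _ fun t => ?_
  obtain ⟨U, n, e, hxU, he, hc⟩ := H (g t)
  obtain ⟨j, hj⟩ := exists_mem_genLocus hL s (isLocBasis_pbS g he) (x := t) hxU
  obtain ⟨a, ha⟩ := exists_coordOn (s := s) (e := e) (j := j) le_rfl
  refine ⟨genLocus (sg s e j), hj, ?_⟩
  have key : ∀ (k : T ⟶ P) (hk : k ≫ π = g) (w : (Scheme.Modules.pullback k).obj O1 ≅ L)
      (_ : bc k q hk ≫ w.hom = s), CoordOn (bc ((genLocus (sg s e j)).ι ≫ k) q
        (show ((genLocus (sg s e j)).ι ≫ k) ≫ π = (genLocus (sg s e j)).ι ≫ g by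
          rw [Category.assoc, hk])) e j ⊤
        (fun i => (genLocus (sg s e j)).ι.appLE (genLocus (sg s e j)) ⊤ (top_le_ι _) (a i)) := by
    intro k hk w hw
    have h1 : CoordOn (bc k q hk) e j (genLocus (sg s e j)) a :=
      ha.iso w.symm (by rw [← hw]; simp)
    exact (h1.pull (genLocus (sg s e j)).ι rfl (top_le_ι _)).comp rfl _
  exact (hc j).uniq _ _ _ _ _ _ _ (key h hh v hv) (key h' hh' v' hv')

/-- Existence of the classifying morphism. -/
theorem good_exists (hO1 : IsInv O1) [Epi q]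
    (H : ∀ x : X, ∃ (U : X.Opens) (n : ℕ) (e : Fin n → Sec E U), x ∈ U ∧ IsLocBasis e ∧
      ∀ j, ChartCond π q e j)
    {g : T ⟶ X} {L : T.Modules} (hL : IsInv L) (s : (Scheme.Modules.pullback g).obj E ⟶ L) [Epi s] :
    ∃ (h : T ⟶ P) (hh : h ≫ π = g) (v : (Scheme.Modules.pullback h).obj O1 ≅ L),
      bc h q hh ≫ v.hom = s := by
  choose U n e hxU he hc using fun t : T => H (g t)
  choose j hj using fun t : T => exists_mem_genLocus hL s (isLocBasis_pbS g (he t)) (x := t) (hxU t)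
  let W : T → T.Opens := fun t => genLocus (sg s (e t) (j t))
  have hW : ∀ t, W t ≤ g ⁻¹ᵁ U t := fun t => genLocus_le _
  choose a ha using fun t : T => exists_coordOn (s := s) (e := e t) (j := j t) (W := W t) le_rfl
  -- local classifying morphisms
  have hloc : ∀ t : T, ∃ (h : (W t : Scheme.{u}) ⟶ P) (hh : h ≫ π = (W t).ι ≫ g),
      CoordOn (bc h q hh) (e t) (j t) ⊤ (fun i => (W t).ι.appLE (W t) ⊤ (top_le_ι _) (a t i)) := by
    intro t
    refine (hc t (j t)).exist _ _ ?_ _ ?_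
    · exact (top_le_ι (W t)).trans ((W t).ι.preimage_mono (hW t))
    · rw [(ha t).self]
      exact map_one ((W t).ι.appLE (W t) ⊤ (top_le_ι _)).hom
  choose h hh hcoord using hloc
  have hiso : ∀ t : T, ∃ v : (Scheme.Modules.pullback (h t)).obj O1 ≅
      (Scheme.Modules.pullback (W t).ι).obj L, bc (h t) q (hh t) ≫ v.hom = bc (W t).ι s rfl := by
    intro t
    refine exists_iso_of_coordOn _ _ fun x => ⟨U t, n t, e t, j t, ⊤, _, he t, trivial, hcoord t, ?_⟩
    exact (ha t).pull (W t).ι rfl (top_le_ι _)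
  choose v hv using hiso
  let 𝒰 : T.OpenCover := {
    I₀ := T, X t := (W t), f t := (W t).ι,
    mem₀ := by
      rw [Scheme.presieve₀_mem_precoverage_iff]
      refine ⟨fun x ↦ ⟨x, ?_⟩, inferInstance⟩
      rw [Scheme.Opens.range_ι]
      exact hj x }
  have hcompat : ∀ x y, pullback.fst (𝒰.f x) (𝒰.f y) ≫ h x = pullback.snd (𝒰.f x) (𝒰.f y) ≫ h y := by
    intro x y
    let p : pullback (W x).ι (W y).ι ⟶ (W x : Scheme.{u}) := pullback.fst (W x).ι (W y).ι
    let p' : pullback (W x).ι (W y).ι ⟶ (W y : Scheme.{u}) := pullback.snd (W x).ι (W y).ι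
    have hpp : p ≫ (W x).ι = p' ≫ (W y).ι := pullback.condition
    have hr : (⊤ : (pullback (W x).ι (W y).ι : Scheme.{u}).Opens) ≤ (p ≫ (W x).ι) ⁻¹ᵁ (W x) := by
      rw [Scheme.Hom.comp_preimage]
      exact (p.preimage_mono (top_le_ι (W x)))
    have h1 : CoordOn (bc (p ≫ h x) q (show (p ≫ h x) ≫ π = (p ≫ (W x).ι) ≫ g by
        rw [Category.assoc, hh, Category.assoc])) (e x) (j x) ⊤
        (fun i => (p ≫ (W x).ι).appLE (W x) ⊤ hr (a x i)) := by
      have h2 := ((hcoord x).pull p (g' := (p ≫ (W x).ι) ≫ g) (by rw [Category.assoc])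
        (W' := ⊤) le_top).comp (k'' := p ≫ h x) rfl (by rw [Category.assoc, hh, Category.assoc])
      convert h2 using 2 with i
      rw [← CategoryTheory.comp_apply, Scheme.Hom.appLE_comp_appLE]
    have h3 : CoordOn (bc (p' ≫ h y) q (show (p' ≫ h y) ≫ π = (p ≫ (W x).ι) ≫ g by
        rw [Category.assoc, hh, hpp, Category.assoc])) (e x) (j x) ⊤
        (fun i => (p ≫ (W x).ι).appLE (W x) ⊤ hr (a x i)) := by
      have h4 := (ha x).pull (p ≫ (W x).ι) (g' := (p ≫ (W x).ι) ≫ g) rfl hr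
      have h5 : CoordOn (bc p' (bc (W y).ι s rfl) (show p' ≫ (W y).ι ≫ g = (p ≫ (W x).ι) ≫ g by
        rw [hpp, Category.assoc])) (e x) (j x) ⊤
        (fun i => (p ≫ (W x).ι).appLE (W x) ⊤ hr (a x i)) := CoordOn.uncomp (hk'' := hpp.symm) h4
      have h6 : CoordOn (bc p' (bc (h y) q (hh y)) (show p' ≫ (W y).ι ≫ g = (p ≫ (W x).ι) ≫ g by
        rw [hpp, Category.assoc])) (e x) (j x) ⊤
        (fun i => (p ≫ (W x).ι).appLE (W x) ⊤ hr (a x i)) := by
        refine h5.iso ((Scheme.Modules.pullback p').mapIso (v y).symm) ?_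
        rw [← hv y]
        unfold bc
        simp only [Category.assoc, Functor.map_comp, Functor.mapIso_hom, Iso.symm_hom]
        rw [← Functor.map_comp, Iso.hom_inv_id, CategoryTheory.Functor.map_id, Category.comp_id]
      exact h6.comp rfl _
    exact (hc x (j x)).uniq _ _ _ _ _ _ _ h1 h3
  let H₀ : T ⟶ P := 𝒰.glueMorphisms h hcompat
  have hH₀ : ∀ t, (W t).ι ≫ H₀ = h t := fun t => 𝒰.ι_glueMorphisms h hcompat t
  have hHπ : H₀ ≫ π = g := by
    refine Scheme.hom_ext_of_forall _ _ fun t => ⟨W t, hj t, ?_⟩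
    rw [← Category.assoc, hH₀, hh]
  refine ⟨H₀, hHπ, ?_⟩
  refine exists_iso_of_coordOn _ _ fun t => ⟨U t, n t, e t, j t, W t, a t, he t, hj t, ?_, ha t⟩
  refine coordOn_of_ι (isInv_pullback H₀ hO1) ?_
  refine CoordOn.uncomp (k'' := h t) (hk'' := hH₀ t) (hk3 := hh t) ?_
  exact hcoord t

/-- **Criterion for projective bundles.** -/
theorem isProjBundle_of_chartCond (hO1 : IsInv O1) [Epi q]
    (H : ∀ x : X, ∃ (U : X.Opens) (n : ℕ) (e : Fin n → Sec E U), x ∈ U ∧ IsLocBasis e ∧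
      ∀ j, ChartCond π q e j) : KRR.IsProjBundle π E O1 q where
  invertible := isInv_iff.1 hO1
  epi := inferInstance
  univ T g L hL s hs := by
    have hL' : IsInv L := isInv_iff.2 hL
    obtain ⟨h, hh, v, hv⟩ := good_exists π q hO1 H hL' s
    refine ⟨h, ⟨hh, v, ?_⟩, ?_⟩
    · rw [← hv]
      unfold bc
      simp only [Category.assoc]
    · rintro h' ⟨hh', v', hv'⟩
      refine good_unique π q H hL' s hh' hh v' ?_ v hv
      rw [← hv']
      unfold bc
      simp only [Category.assoc]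

end Main

end Groth.Agent.Krr.H496.ProjCrit
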